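import Cfsg.Agent.Lib.AGroupIndex.Bound
import Cfsg.Agent.Lib.FrobSys.Odd
import Cfsg.Agent.Lib.Fitting.Basic
import Cfsg.Agent.S0009

/-!
# Subgroups of 2-power index in a simple group with abelian Sylow subgroups: local structure

If `H` is such a subgroup and every perfect proper subgroup meeting `H` in 2-power index lies in
`H`, then every proper overgroup of a Sylow 2-subgroup `P` normalizes it, and `C(P) = P`.
-/

set_option autoImplicit false
set_option linter.style.haveILetI false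

open Cfsg

namespace CfsgLib.AGroupIndex

open CfsgLib.Char.AGroupMonomial (AbSylow)

variable {E : Type*} [Group E] [Finite E]

/-- The part of `H` in a normal subgroup has index dividing that of `H`. -/
theorem relIndex_normal_dvd_index (H N : Subgroup E) [N.Normal] : H.relIndex N ∣ H.index := by
  have hX : H.relIndex (H ⊔ N) = H.relIndex N := by
    have h1 := Subgroup.relIndex_mul_relIndex ⊥ (H ⊓ N) H bot_le inf_le_left
    have h2 := Subgroup.relIndex_mul_relIndex ⊥ (H ⊓ N) N bot_le inf_le_right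
    have h3 := Subgroup.relIndex_mul_relIndex ⊥ H (H ⊔ N) bot_le le_sup_left
    have h4 := Subgroup.relIndex_mul_relIndex ⊥ N (H ⊔ N) bot_le le_sup_right
    rw [Subgroup.relIndex_sup_right, ← h3, ← h2, Subgroup.inf_relIndex_right, mul_assoc,
      mul_comm (H.relIndex N), ← mul_assoc] at h4
    rw [Subgroup.inf_relIndex_left] at h1
    rw [h1] at h4
    refine Nat.eq_of_mul_eq_mul_left ?_ h4.symm
    rw [Subgroup.relIndex_bot_left]; exact Nat.card_pos
  rw [← hX]
  exact Subgroup.relIndex_dvd_index_of_le le_sup_left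

/-- The hypotheses. -/
structure Hyp (H : Subgroup E) : Prop where
  simple : IsSimpleGroup E
  ab : AbSylow E
  perf : commutator E = ⊤
  ne_top : H ≠ ⊤
  idx : ∃ a, H.index = 2 ^ a
  ih : ∀ D : Subgroup E, D ≠ ⊤ → ⁅D, D⁆ = D → (∃ b, H.relIndex D = 2 ^ b) → D ≤ H

variable {H : Subgroup E} (h : Hyp H)
include h

theorem Hyp.not_solvable : ¬ Group.IsSolvable E := fun hs => by
  haveI := h.simple
  haveI : Nontrivial E := h.simple.toNontrivial
  obtain ⟨n, hn⟩ := hs
  have : ∀ k, derivedSeries E k = ⊤ := fun k => by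
    induction k with
    | zero => rfl
    | succ k ih => rw [derivedSeries_succ, ih, ← commutator_def, h.perf]
  rw [this] at hn
  exact top_ne_bot hn

theorem Hyp.sylow_comm (P : Sylow 2 E) {x y : E} (hx : x ∈ (P : Subgroup E))
    (hy : y ∈ (P : Subgroup E)) : x * y = y * x :=
  haveI : Fact (Nat.Prime 2) := ⟨Nat.prime_two⟩
  h.ab 2 P x hx y hy

omit h in
theorem two_part_index {H : Subgroup E} {a : ℕ} (ha : H.index = 2 ^ a) :
    (Nat.card E).factorization 2 = (Nat.card H).factorization 2 + a := by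
  rw [← Subgroup.card_mul_index H, ha,
    Nat.factorization_mul Nat.card_pos.ne' (pow_ne_zero _ two_ne_zero), Finsupp.add_apply,
    Nat.Prime.factorization_pow Nat.prime_two, Finsupp.single_eq_same]

/-- A Sylow 2-subgroup is a supplement to `H` and cuts it in a Sylow 2-subgroup. -/
theorem Hyp.sylow_spec (P : Sylow 2 E) :
    H.relIndex (P : Subgroup E) = H.index ∧
      Nat.card ↥(H ⊓ (P : Subgroup E)) = 2 ^ (Nat.card H).factorization 2 := by
  haveI : Fact (Nat.Prime 2) := ⟨Nat.prime_two⟩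
  obtain ⟨a, ha⟩ := h.idx
  obtain ⟨j, hj⟩ := (P.2.to_le (inf_le_right : H ⊓ (P : Subgroup E) ≤ P)).exists_card_eq
  have hjle : j ≤ (Nat.card H).factorization 2 :=
    (Nat.Prime.pow_dvd_iff_le_factorization Nat.prime_two Nat.card_pos.ne').mp
      (hj ▸ Subgroup.card_dvd_of_le inf_le_left)
  have h1 := Subgroup.relIndex_mul_relIndex ⊥ (H ⊓ (P : Subgroup E)) (P : Subgroup E) bot_le inf_le_right
  rw [Subgroup.relIndex_bot_left, Subgroup.relIndex_bot_left, Subgroup.inf_relIndex_right, hj,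
    P.card_eq_multiplicity, two_part_index ha, pow_add] at h1
  have h2 : H.relIndex (P : Subgroup E) ≤ 2 ^ a := by
    rw [← ha, ← Subgroup.relIndex_top_right]
    exact Subgroup.relIndex_le_of_le_right le_top (by
      rw [Subgroup.relIndex_top_right]; exact Subgroup.index_ne_zero_of_finite)
  have h3 : 2 ^ j ≤ 2 ^ (Nat.card H).factorization 2 := Nat.pow_le_pow_right (by norm_num) hjle
  have h5 : 2 ^ j = 2 ^ (Nat.card H).factorization 2 := by
    refine le_antisymm h3 (Nat.le_of_mul_le_mul_right ?_ (pow_pos two_pos a))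
    rw [← h1]
    exact Nat.mul_le_mul le_rfl h2
  refine ⟨?_, hj.trans h5⟩
  rw [h5] at h1
  rw [ha]
  exact Nat.eq_of_mul_eq_mul_left (pow_pos two_pos _) h1

theorem Hyp.exists_mul (P : Sylow 2 E) (g : E) :
    ∃ s ∈ (P : Subgroup E), ∃ y ∈ H, g = s * y := by
  let f : (P : Subgroup E) ⧸ H.subgroupOf (P : Subgroup E) → E ⧸ H :=
    fun x => ((x.out : (P : Subgroup E)) : E)
  have hf : Function.Injective f := fun x y e => by
    rw [← QuotientGroup.out_eq' x, ← QuotientGroup.out_eq' y]
    exact QuotientGroup.eq.mpr (QuotientGroup.eq.mp (show ((x.out : (P : Subgroup E)) : E ⧸ H) = ((y.out : (P : Subgroup E)) : E ⧸ H) from e) :)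
  obtain ⟨x, hx⟩ := ((Nat.bijective_iff_injective_and_card f).mpr
    ⟨hf, (h.sylow_spec P).1⟩).2 (g : E ⧸ H)
  exact ⟨_, (x.out).2, _, QuotientGroup.eq.mp hx, (mul_inv_cancel_left _ _).symm⟩

/-- A subgroup of `H` normalized by a Sylow 2-subgroup is trivial. -/
theorem Hyp.eq_bot_of_le (P : Sylow 2 E) {W : Subgroup E} (hWH : W ≤ H)
    (hn : (P : Subgroup E) ≤ Subgroup.normalizer (W : Set E)) : W = ⊥ := by
  haveI := h.simple
  have key : Subgroup.normalClosure (W : Set E) ≤ H := by
    rw [Subgroup.normalClosure, Subgroup.closure_le]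
    intro x hx
    obtain ⟨w, hw, hc⟩ := Group.mem_conjugatesOfSet_iff.mp hx
    obtain ⟨g, rfl⟩ := isConj_iff.mp hc
    obtain ⟨s, hs, y, hy, hg⟩ := h.exists_mul P g⁻¹
    have h1 : s⁻¹ * w * s ∈ W := by
      simpa using (Subgroup.mem_normalizer_iff.mp (inv_mem (hn hs)) w).mp hw
    have e : g * w * g⁻¹ = y⁻¹ * (s⁻¹ * w * s) * y := by
      rw [inv_eq_iff_eq_inv.mp hg]; group
    rw [SetLike.mem_coe, e]
    exact H.mul_mem (H.mul_mem (H.inv_mem hy) (hWH h1)) hy
  rcases (inferInstance : (Subgroup.normalClosure (W : Set E)).Normal).eq_bot_or_eq_top with e | e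
  · exact le_bot_iff.mp (e ▸ Subgroup.le_normalClosure)
  · exact absurd (top_le_iff.mp (e ▸ key)) h.ne_top

/-- Normal subgroups of an overgroup of a Sylow 2-subgroup meet `H` in 2-power index. -/
theorem Hyp.relIndex_dvd (P : Sylow 2 E) {M W : Subgroup E} (hPM : (P : Subgroup E) ≤ M)
    (hW : W ≤ M) (hn : M ≤ Subgroup.normalizer (W : Set E)) : H.relIndex W ∣ H.index := by
  have hM : H.relIndex M = H.index := by
    refine le_antisymm ?_ ?_
    · rw [← Subgroup.relIndex_top_right]
      exact Subgroup.relIndex_le_of_le_right le_top (by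
        rw [Subgroup.relIndex_top_right]; exact Subgroup.index_ne_zero_of_finite)
    · rw [← (h.sylow_spec P).1]
      exact Subgroup.relIndex_le_of_le_right hPM fun e => Subgroup.index_ne_zero_of_finite
        (Subgroup.index_eq_zero_of_relIndex_eq_zero e)
  haveI : (W.subgroupOf M).Normal := Subgroup.normal_subgroupOf_of_le_normalizer hn
  have h1 := relIndex_normal_dvd_index (H.subgroupOf M) (W.subgroupOf M)
  rw [Subgroup.relIndex_subgroupOf hW] at h1
  exact hM ▸ h1

/-- Overgroups of a Sylow 2-subgroup have no non-trivial odd normal subgroup. -/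
theorem Hyp.eq_bot_of_odd (P : Sylow 2 E) {M W : Subgroup E} (hPM : (P : Subgroup E) ≤ M)
    (hW : W ≤ M) (hn : M ≤ Subgroup.normalizer (W : Set E)) (hodd : Odd (Nat.card W)) :
    W = ⊥ := by
  refine h.eq_bot_of_le P ?_ (hPM.trans hn)
  obtain ⟨a, ha⟩ := h.idx
  rw [← Subgroup.relIndex_eq_one]
  refine Nat.eq_one_of_dvd_coprimes ?_ (h.relIndex_dvd P hPM hW hn) (Subgroup.relIndex_dvd_card H W)
  rw [ha]
  exact Nat.Coprime.pow_left _ ((Nat.coprime_two_left).mpr hodd)

theorem Hyp.solvable_of_ne_top (P : Sylow 2 E) {M : Subgroup E} (hPM : (P : Subgroup E) ≤ M)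
    (hM : M ≠ ⊤) : Group.IsSolvable M := by
  by_contra hns
  obtain ⟨D, hDn, hD, hD1⟩ := Cfsg.Agent.FrobSys.exists_perfect M
  have hDM : D.map M.subtype ≤ M := Subgroup.map_subtype_le _
  have hperf : ⁅D.map M.subtype, D.map M.subtype⁆ = D.map M.subtype := by
    rw [← Subgroup.map_commutator, hD]
  have hn : M ≤ Subgroup.normalizer (D.map M.subtype : Set E) := by
    intro m hm
    rw [Subgroup.mem_normalizer_iff]
    intro x
    constructor
    · rintro ⟨y, hy, rfl⟩
      exact ⟨⟨m, hm⟩ * y * ⟨m, hm⟩⁻¹, hDn.conj_mem y hy _, by simp⟩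
    · rintro ⟨y, hy, hy'⟩
      refine ⟨⟨m, hm⟩⁻¹ * y * ⟨m, hm⟩, by simpa using hDn.conj_mem y hy ⟨m, hm⟩⁻¹, ?_⟩
      simp only [map_mul, map_inv, Subgroup.coe_subtype] at hy' ⊢
      rw [hy']; group
  obtain ⟨a, ha⟩ := h.idx
  obtain ⟨b, -, hb⟩ := (Nat.dvd_prime_pow Nat.prime_two).mp (ha ▸ h.relIndex_dvd P hPM hDM hn)
  have h1 := h.eq_bot_of_le P
    (h.ih _ (fun e => hM (top_le_iff.mp (e ▸ hDM))) hperf ⟨b, hb⟩) (hPM.trans hn)
  exact hD1 hns (Subgroup.map_injective M.subtype_injective (by rw [h1, Subgroup.map_bot]))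

/-- A proper overgroup of a Sylow 2-subgroup normalizes it and centralizes only its elements. -/
theorem Hyp.local_struct (P : Sylow 2 E) {M : Subgroup E} (hPM : (P : Subgroup E) ≤ M)
    (hM : M ≠ ⊤) : M ≤ Subgroup.normalizer ((P : Subgroup E) : Set E) ∧
      ∀ m ∈ M, (∀ s ∈ (P : Subgroup E), s * m = m * s) → m ∈ (P : Subgroup E) := by
  haveI : Fact (Nat.Prime 2) := ⟨Nat.prime_two⟩
  haveI := h.solvable_of_ne_top P hPM hM
  set PM := P.subtype hPM with hPMdef
  have hFle : fittingSubgroup M ≤ (PM : Subgroup M) := by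
    rw [Cfsg.Agent.S0009.result]
    refine iSup_le fun r => ?_
    by_cases hr : (r : ℕ) = 2
    · rw [hr]
      exact fun x hx => by
        have := Fitting.pCore_normal (G := M) 2
        obtain ⟨Q, hQ⟩ := (Fitting.pCore_isPGroup (G := M) 2).exists_le_sylow
        obtain ⟨g, hg⟩ := MulAction.exists_smul_eq M Q PM
        rw [← hg]
        exact ⟨g⁻¹ * x * g, hQ (by simpa using this.conj_mem x hx g⁻¹), by simp [mul_assoc]⟩
    · haveI := Fact.mk r.2
      haveI hn := Fitting.pCore_normal (G := M) (r : ℕ)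
      have hbot : (pCore (r : ℕ) M).map M.subtype = ⊥ := by
        refine h.eq_bot_of_odd P hPM (Subgroup.map_subtype_le _) ?_ ?_
        · intro m hm
          rw [Subgroup.mem_normalizer_iff]
          intro x
          constructor
          · rintro ⟨y, hy, rfl⟩
            exact ⟨⟨m, hm⟩ * y * ⟨m, hm⟩⁻¹, hn.conj_mem y hy _, by simp⟩
          · rintro ⟨y, hy, hy'⟩
            refine ⟨⟨m, hm⟩⁻¹ * y * ⟨m, hm⟩, by simpa using hn.conj_mem y hy ⟨m, hm⟩⁻¹, ?_⟩
            simp only [map_mul, map_inv, Subgroup.coe_subtype] at hy' ⊢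
            rw [hy']; group
        · obtain ⟨k, hk⟩ := (Fitting.pCore_isPGroup (G := M) (r : ℕ)).exists_card_eq
          rw [Subgroup.card_map_of_injective M.subtype_injective, hk]
          exact (r.2.odd_of_ne_two hr).pow
      have : pCore (r : ℕ) M = ⊥ :=
        Subgroup.map_injective M.subtype_injective (by rw [hbot, Subgroup.map_bot])
      rw [this]; exact bot_le
  have hle : (PM : Subgroup M) ≤ fittingSubgroup M := by
    refine le_trans (fun s hs => ?_) Cfsg.Agent.S0044.result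
    exact Subgroup.mem_centralizer_iff.mpr fun x hx =>
      Subtype.ext (h.sylow_comm P (hFle hx) hs)
  have hF : fittingSubgroup M = (PM : Subgroup M) := le_antisymm hFle hle
  haveI hPn : (PM : Subgroup M).Normal := hF ▸ Fitting.fittingSubgroup_normal
  refine ⟨fun m hm => ?_, fun m hm hc => ?_⟩
  · rw [Subgroup.mem_normalizer_iff]
    intro x
    constructor
    · intro hx
      exact hPn.conj_mem ⟨x, hPM hx⟩ hx ⟨m, hm⟩
    · intro hx
      have h1 : (⟨m, hm⟩⁻¹ * ⟨m * x * m⁻¹, hPM hx⟩ * ⟨m, hm⟩⁻¹⁻¹ : M) ∈ (PM : Subgroup M) :=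
        hPn.conj_mem _ hx _
      have h2 : m⁻¹ * (m * x * m⁻¹) * m⁻¹⁻¹ ∈ (P : Subgroup E) := h1
      simpa [mul_assoc] using h2
  · have : (⟨m, hm⟩ : M) ∈ fittingSubgroup M := Cfsg.Agent.S0044.result
      (Subgroup.mem_centralizer_iff.mpr fun x hx => Subtype.ext (hc x (hFle hx)))
    exact hFle this

theorem Hyp.sylow_ne_bot (P : Sylow 2 E) : (P : Subgroup E) ≠ ⊥ := fun e => h.not_solvable <|
  haveI : Fact (Nat.Prime 2) := ⟨Nat.prime_two⟩
  Cfsg.Agent.S0205.result (Nat.not_even_iff_odd.mp fun he => by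
    have h1 := P.dvd_card_of_dvd_card (even_iff_two_dvd.mp he)
    rw [e, Subgroup.card_bot] at h1
    exact absurd (Nat.le_of_dvd one_pos h1) (by norm_num))

theorem Hyp.normalizer_ne_top (P : Sylow 2 E) :
    Subgroup.normalizer ((P : Subgroup E) : Set E) ≠ ⊤ := fun e => by
  haveI : Fact (Nat.Prime 2) := ⟨Nat.prime_two⟩
  haveI := h.simple
  rcases (Subgroup.normalizer_eq_top_iff.mp e).eq_bot_or_eq_top with e' | e'
  · exact h.sylow_ne_bot P e'
  · refine h.not_solvable ?_
    haveI : Group.IsNilpotent (P : Subgroup E) := P.2.isNilpotent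
    haveI : Group.IsSolvable (P : Subgroup E) := inferInstance
    exact Group.isSolvable_of_surjective (f := (P : Subgroup E).subtype) fun x =>
      ⟨⟨x, e' ▸ Subgroup.mem_top x⟩, rfl⟩

theorem Hyp.centralizer_sylow (P : Sylow 2 E) :
    Subgroup.centralizer ((P : Subgroup E) : Set E) ≤ (P : Subgroup E) := fun m hm =>
  (h.local_struct P Subgroup.le_normalizer (h.normalizer_ne_top P)).2 m
    (Subgroup.centralizer_le_normalizer _ hm) fun s hs => Subgroup.mem_centralizer_iff.mp hm s hs

theorem Hyp.centralizer_invol (P : Sylow 2 E) {t : E} (ht : t ∈ (P : Subgroup E)) (ht1 : t ≠ 1) :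
    Subgroup.centralizer ({t} : Set E) ≤ Subgroup.normalizer ((P : Subgroup E) : Set E) := by
  refine (h.local_struct P (fun s hs => Subgroup.mem_centralizer_singleton_iff.mpr
    (h.sylow_comm P hs ht)) fun e => ?_).1
  haveI := h.simple
  have hz : t ∈ Subgroup.center E := Subgroup.mem_center_iff.mpr fun g =>
    Subgroup.mem_centralizer_singleton_iff.mp (e ▸ Subgroup.mem_top g)
  exact ht1 (h.ab.eq_one_of_central (h.perf ▸ Subgroup.mem_top t) hz)

end CfsgLib.AGroupIndex
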