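import Cfsg.Agent.Lib.Char.AGroupMonomial
import Cfsg.Agent.Lib.OddLocal.TauTwoHall
import Cfsg.Agent.S0205
import Cfsg.Agent.S0044
import Cfsg.Agent.S0008

/-!
# Groups of odd order with abelian Sylow subgroups transitive on a binary space

Such a group is semilinear over a field whose multiplicative group contains its Fitting
subgroup, so its order is at most `(2 ^ f - 1) * f`.
-/

set_option autoImplicit false
set_option linter.style.haveILetI false

open Cfsg

namespace CfsgLib.AGroupIndex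

open CfsgLib.Char.AGroupMonomial (AbSylow)

theorem fitting_comm {Q : Type*} [Group Q] [Finite Q] (hA : AbSylow Q) :
    ∀ a ∈ fittingSubgroup Q, ∀ b ∈ fittingSubgroup Q, a * b = b * a := by
  intro a ha b hb
  have h : IsMulCommutative (fittingSubgroup Q) :=
    OddLocal.isMulCommutative_of_sylow Cfsg.Agent.S0008.result fun r _ P =>
      ⟨⟨fun x y => Subtype.ext
        (hA.of_injective (fittingSubgroup Q).subtype (Subgroup.subtype_injective _) r P x x.2 y y.2)⟩⟩
  exact congrArg Subtype.val (h.is_comm.comm ⟨a, ha⟩ ⟨b, hb⟩)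

theorem card_le_of_transitive {Q V : Type*} [Group Q] [Finite Q] [AddCommGroup V] [Finite V]
    [Nontrivial V] (hodd : Odd (Nat.card Q)) (hA : AbSylow Q) (hv2 : ∀ v : V, v + v = 0)
    (φ : Q →* AddMonoid.End V) (hinj : Function.Injective φ)
    (htr : ∀ v w : V, v ≠ 0 → w ≠ 0 → ∃ q, φ q v = w) {f : ℕ} (hf : Nat.card V = 2 ^ f) :
    Nat.card Q ≤ (2 ^ f - 1) * f := by
  classical
  haveI : Group.IsSolvable Q := Cfsg.Agent.S0205.result hodd
  set F := fittingSubgroup Q with hF
  have hFn : F.Normal := Subgroup.sSup_normal _ (fun _ h => h.1)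
  have hcen : Subgroup.centralizer (F : Set Q) ≤ F := Cfsg.Agent.S0044.result
  set s : Set (AddMonoid.End V) := φ '' (F : Set Q) with hs
  set A : Subring (AddMonoid.End V) := Subring.closure s with hAdef
  haveI : Finite (AddMonoid.End V) :=
    Finite.of_injective (fun c : AddMonoid.End V => (c : V → V)) DFunLike.coe_injective
  have happ : ∀ (c d : AddMonoid.End V) (v : V), (c * d) v = c (d v) := fun c d v => rfl
  have hq' : ∀ (q : Q) (v : V), φ q⁻¹ (φ q v) = v := fun q v => by
    rw [← happ, ← map_mul, inv_mul_cancel, map_one]; rfl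
  have hcomm : ∀ x ∈ s, ∀ y ∈ s, x * y = y * x := by
    rintro _ ⟨a, ha, rfl⟩ _ ⟨b, hb, rfl⟩
    rw [← map_mul, ← map_mul, fitting_comm hA a ha b hb]
  haveI hAc : IsMulCommutative A := Subring.isMulCommutative_closure hcomm
  -- invariant subgroups
  let Inv : AddSubgroup V → Prop := fun W => ∀ a ∈ F, ∀ w ∈ W, φ a w ∈ W
  have hAinv : ∀ W, Inv W → ∀ c ∈ A, ∀ w ∈ W, c w ∈ W := by
    intro W hW c hc
    induction hc using Subring.closure_induction with
    | mem x hx => obtain ⟨a, ha, rfl⟩ := hx; exact hW a ha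
    | zero => exact fun w _ => W.zero_mem
    | one => exact fun w hw => hw
    | add x y _ _ hx hy => exact fun w hw => W.add_mem (hx w hw) (hy w hw)
    | neg x _ hx => exact fun w hw => W.neg_mem (hx w hw)
    | mul x y _ _ hx hy => exact fun w hw => hx _ (hy w hw)
  let Min : AddSubgroup V → Prop := fun W => W ≠ ⊥ ∧ Inv W ∧
    ∀ W', Inv W' → W' ≠ ⊥ → W' ≤ W → W' = W
  obtain ⟨W₀, hW₀⟩ : ∃ W, Min W := by
    obtain ⟨W, hW⟩ := Set.Finite.exists_minimal (s := {W : AddSubgroup V | W ≠ ⊥ ∧ Inv W})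
      (Set.toFinite _) ⟨⊤, top_ne_bot, fun _ _ _ _ => trivial⟩
    exact ⟨W, hW.prop.1, hW.prop.2, fun W' h1 h2 h3 => le_antisymm h3 (hW.le_of_le ⟨h2, h1⟩ h3)⟩
  have hmin : ∀ v : V, v ≠ 0 → ∃ W, Min W ∧ v ∈ W := by
    intro v hv
    obtain ⟨w, hw, hw0⟩ := W₀.bot_or_exists_ne_zero.resolve_left hW₀.1
    obtain ⟨q, rfl⟩ := htr w v hw0 hv
    refine ⟨W₀.comap (φ q⁻¹), ⟨?_, ?_, ?_⟩, ?_⟩
    · intro e
      have h1 : φ q w ∈ W₀.comap (φ q⁻¹) := by
        show φ q⁻¹ (φ q w) ∈ W₀
        rw [hq']; exact hw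
      rw [e] at h1
      exact hv h1
    · intro a ha u hu
      show φ q⁻¹ (φ a u) ∈ W₀
      have := hW₀.2.1 (q⁻¹ * a * q) (by
        simpa [mul_assoc] using hFn.conj_mem a ha q⁻¹) _ hu
      have e : φ (q⁻¹ * a * q) (φ q⁻¹ u) = φ q⁻¹ (φ a u) := by
        rw [← happ, ← happ, ← map_mul, ← map_mul]; simp [mul_assoc]
      exact (congrArg (· ∈ W₀) e).mp this
    · intro W' h1 h2 h3
      have hW'' : W'.comap (φ q) = W₀ := by
        refine hW₀.2.2 _ ?_ ?_ ?_
        · intro a ha u hu
          show φ q (φ a u) ∈ W'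
          have := h1 (q * a * q⁻¹) (hFn.conj_mem a ha q) _ hu
          have e : φ (q * a * q⁻¹) (φ q u) = φ q (φ a u) := by
            rw [← happ, ← happ, ← map_mul, ← map_mul]; simp [mul_assoc]
          exact (congrArg (· ∈ W') e).mp this
        · obtain ⟨u, hu, hu0⟩ := W'.bot_or_exists_ne_zero.resolve_left h2
          intro e
          have h4 : φ q⁻¹ u ∈ W'.comap (φ q) := by
            show φ q (φ q⁻¹ u) ∈ W'
            have := hq' q⁻¹ u
            rw [inv_inv] at this
            rwa [this]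
          rw [e, AddSubgroup.mem_bot] at h4
          have := congrArg (φ q) h4
          rw [map_zero] at this
          have h5 := hq' q⁻¹ u
          rw [inv_inv] at h5
          exact hu0 (h5.symm.trans this)
        · intro u hu
          have := h3 (show φ q u ∈ W' from hu)
          exact (congrArg (· ∈ W₀) (hq' q u)).mp this
      refine le_antisymm h3 fun u hu => ?_
      have h4 : φ q⁻¹ u ∈ W₀ := hu
      rw [← hW''] at h4
      have h5 := hq' q⁻¹ u
      rw [inv_inv] at h5
      exact h5 ▸ h4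
    · show φ q⁻¹ (φ q w) ∈ W₀
      rw [hq']; exact hw
  have heq : ∀ {U W : AddSubgroup V}, Min U → Min W → ∀ {v}, v ∈ U → v ∈ W → v ≠ 0 → U = W := by
    intro U W hU hW v hvU hvW hv
    have hne : U ⊓ W ≠ ⊥ := fun e => hv ((AddSubgroup.mem_bot).mp (e ▸ ⟨hvU, hvW⟩))
    have hI : Inv (U ⊓ W) := fun a ha w hw => ⟨hU.2.1 a ha w hw.1, hW.2.1 a ha w hw.2⟩
    exact (hU.2.2 _ hI hne inf_le_left).symm.trans (hW.2.2 _ hI hne inf_le_right)
  -- non-zero members of `A` are injective
  have hinjA : ∀ c ∈ A, ∀ u : V, u ≠ 0 → c u = 0 → c = 0 := by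
    intro c hc u hu hcu
    obtain ⟨U, hU, huU⟩ := hmin u hu
    have hkill : ∀ w ∈ U, c w = 0 := by
      let K : AddSubgroup V := U ⊓ AddMonoidHom.ker c
      have hK : K = U := by
        refine hU.2.2 K ?_ ?_ inf_le_left
        · intro a ha w hw
          refine ⟨hU.2.1 a ha w hw.1, ?_⟩
          show c (φ a w) = 0
          have h1 : c * φ a = φ a * c := congrArg Subtype.val
            (hAc.is_comm.comm ⟨c, hc⟩ ⟨φ a, Subring.subset_closure ⟨a, ha, rfl⟩⟩)
          rw [← happ, h1, happ, show c w = 0 from hw.2, map_zero]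
        · intro e
          exact hu ((AddSubgroup.mem_bot).mp (e ▸ (⟨huU, hcu⟩ : u ∈ K)))
      exact fun w hw => (hK.ge hw).2
    refine DFunLike.ext _ _ fun v => ?_
    show c v = 0
    by_cases hvU : v ∈ U
    · exact hkill v hvU
    have hv0 : v ≠ 0 := fun e => hvU (e ▸ U.zero_mem)
    have huv : u + v ≠ 0 := fun e => hvU (eq_neg_of_add_eq_zero_right e ▸ U.neg_mem huU)
    obtain ⟨U₂, hU₂, h2⟩ := hmin v hv0
    obtain ⟨U₃, hU₃, h3⟩ := hmin _ huv
    by_contra hcv
    have h4 : c v ∈ U₃ := by simpa [map_add, hcu] using hAinv U₃ hU₃.2.1 c hc _ h3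
    obtain rfl := heq hU₂ hU₃ (hAinv U₂ hU₂.2.1 c hc v h2) h4 hcv
    exact hvU ((heq hU hU₂ huU (by simpa using U₂.sub_mem h3 h2) hu) ▸ h2)
  obtain ⟨v₀, hv₀⟩ := exists_ne (0 : V)
  -- the field
  letI : CommRing A := { (inferInstance : Ring A) with mul_comm := hAc.is_comm.comm }
  haveI : Nontrivial A := ⟨⟨0, 1, fun e => hv₀ (by
    have := congrArg (fun c : A => (c : AddMonoid.End V) v₀) e
    exact this.symm)⟩⟩
  haveI : NoZeroDivisors A := ⟨fun {c d} e => by
    refine or_iff_not_imp_left.mpr fun hc0 => Subtype.ext (DFunLike.ext _ _ fun v => ?_)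
    show (d : AddMonoid.End V) v = 0
    by_contra hv
    exact hc0 (Subtype.ext (hinjA _ c.2 _ hv
      (by simpa using congrArg (fun x : A => (x : AddMonoid.End V) v) e)))⟩
  haveI : IsDomain A := NoZeroDivisors.to_isDomain A
  haveI : Fintype A := Fintype.ofFinite A
  letI : Field A := Fintype.fieldOfDomain A
  haveI : CharP A 2 := CharTwo.of_one_ne_zero_of_two_eq_zero one_ne_zero
    (Subtype.ext (DFunLike.ext _ _ fun v => by
      rw [← one_add_one_eq_two]; exact hv2 v))
  letI : Algebra (ZMod 2) A := ZMod.algebra A 2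
  set d := Module.finrank (ZMod 2) A with hd
  have hcardA : Nat.card A = 2 ^ d := by
    rw [Module.natCard_eq_pow_finrank (K := ZMod 2), Nat.card_zmod]
  have hdf : d ≤ f := by
    have h1 : Nat.card A ≤ Nat.card V := by
      refine Nat.card_le_card_of_injective (fun c : A => (c : AddMonoid.End V) v₀) fun c d e => ?_
      have := hinjA _ (c - d).2 v₀ hv₀ (sub_eq_zero.mpr e)
      exact sub_eq_zero.mp (Subtype.ext this)
    rw [hcardA, hf] at h1
    exact (Nat.pow_le_pow_iff_right (by norm_num)).mp h1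
  -- the Fitting subgroup
  have hFle : Nat.card F ≤ 2 ^ d - 1 := by
    let ι : F → {c : A // c ≠ 0} := fun a =>
      ⟨⟨φ a, Subring.subset_closure ⟨a, a.2, rfl⟩⟩, fun e => hv₀ (by
        have h1 := congrArg (fun c : A => φ (a : Q)⁻¹ ((c : AddMonoid.End V) v₀)) e
        simp only [hq'] at h1
        simpa using h1)⟩
    have h1 := Nat.card_le_card_of_injective ι fun a b e =>
      Subtype.ext (hinj (congrArg (fun c => ((c.1 : A) : AddMonoid.End V)) e))
    rwa [Nat.card_eq_fintype_card (α := {c : A // c ≠ 0}), Fintype.card_subtype_compl,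
      Fintype.card_subtype_eq, ← Nat.card_eq_fintype_card, hcardA] at h1
  -- conjugation
  have hconj : ∀ (q : Q) (c : AddMonoid.End V), c ∈ A → φ q * c * φ q⁻¹ ∈ A := by
    intro q c hc
    induction hc using Subring.closure_induction with
    | mem x hx =>
      obtain ⟨a, ha, rfl⟩ := hx
      rw [← map_mul, ← map_mul]
      exact Subring.subset_closure ⟨_, hFn.conj_mem a ha q, rfl⟩
    | zero => simp
    | one => rw [mul_one, ← map_mul, mul_inv_cancel, map_one]; exact A.one_mem
    | add x y _ _ hx hy => rw [mul_add, add_mul]; exact A.add_mem hx hy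
    | neg x _ hx => rw [mul_neg, neg_mul]; exact A.neg_mem hx
    | mul x y _ _ hx hy =>
      convert A.mul_mem hx hy using 1
      simp only [mul_assoc]
      rw [← mul_assoc (φ q⁻¹) (φ q), ← map_mul, inv_mul_cancel, map_one, one_mul]
  let σ : Q → (A →+* A) := fun q =>
    { toFun := fun c => ⟨_, hconj q _ c.2⟩
      map_one' := Subtype.ext (by
        show φ q * 1 * φ q⁻¹ = 1
        rw [mul_one, ← map_mul, mul_inv_cancel, map_one])
      map_mul' := fun x y => Subtype.ext (by
        show φ q * ((x : AddMonoid.End V) * y) * φ q⁻¹ = φ q * x * φ q⁻¹ * (φ q * y * φ q⁻¹)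
        simp only [mul_assoc]
        rw [← mul_assoc (φ q⁻¹) (φ q), ← map_mul, inv_mul_cancel, map_one, one_mul])
      map_zero' := Subtype.ext (by
        show φ q * 0 * φ q⁻¹ = 0
        simp)
      map_add' := fun x y => Subtype.ext (by
        show φ q * ((x : AddMonoid.End V) + y) * φ q⁻¹ = φ q * x * φ q⁻¹ + φ q * y * φ q⁻¹
        rw [mul_add, add_mul]) }
  have hσ : ∀ q r : Q, σ q = σ r → q⁻¹ * r ∈ F := by
    intro q r e
    refine hcen (Subgroup.mem_centralizer_iff.mpr fun a ha => hinj ?_)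
    have h1 := congrArg Subtype.val
      (DFunLike.congr_fun e ⟨φ a, Subring.subset_closure ⟨a, ha, rfl⟩⟩)
    have h2 : φ (q * a * q⁻¹) = φ (r * a * r⁻¹) := by
      simp only [map_mul]; exact h1
    have h3 := hinj h2
    rw [show a * (q⁻¹ * r) = q⁻¹ * (q * a * q⁻¹) * r by group, h3]
    group
  let alg : (A →+* A) → (A →ₐ[ZMod 2] A) := fun g => { g with commutes' := fun r => RingHom.congr_fun (RingHom.ext_zmod (g.comp (algebraMap (ZMod 2) A)) (algebraMap (ZMod 2) A)) r }
  have halg : Function.Injective alg := fun g h e =>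
    RingHom.ext fun c => by exact congrArg (fun k : A →ₐ[ZMod 2] A => k c) e
  have hidx : F.index ≤ d := by
    rw [Subgroup.index]
    haveI : Finite (A →ₐ[ZMod 2] A) := inferInstance
    refine (Nat.card_le_card_of_injective (fun x : Q ⧸ F => alg (σ x.out)) fun x y e => ?_).trans ?_
    · rw [← QuotientGroup.out_eq' x, ← QuotientGroup.out_eq' y]
      exact QuotientGroup.eq.mpr (hσ _ _ (halg e))
    · exact card_algHom_le_finrank (ZMod 2) A A
  calc Nat.card Q = Nat.card F * F.index := (Subgroup.card_mul_index F).symm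
    _ ≤ (2 ^ d - 1) * d := Nat.mul_le_mul hFle hidx
    _ ≤ (2 ^ f - 1) * f := Nat.mul_le_mul
      (Nat.sub_le_sub_right (Nat.pow_le_pow_right (by norm_num) hdf) 1) hdf

end CfsgLib.AGroupIndex
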