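import Cfsg.Agent.Lib.AGroupIndex.Swap

/-!
# Perfect groups with abelian Sylow subgroups have no proper subgroup of 2-power index
-/

set_option autoImplicit false
set_option linter.style.haveILetI false

open Cfsg
open scoped Pointwise

namespace CfsgLib.AGroupIndex

open CfsgLib.Char.AGroupMonomial (AbSylow)

universe u

/-- An element of odd order centralizing the involutions of an abelian 2-group centralizes it. -/
theorem centralizes_of_omega {E : Type*} [Group E] (P : Subgroup E) (hP : IsPGroup 2 P)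
    (hc : ∀ x ∈ P, ∀ y ∈ P, x * y = y * x) {k : E} (hk : ∀ x ∈ P, k * x * k⁻¹ ∈ P)
    (hodd : Odd (orderOf k)) (hfix : ∀ x ∈ P, x * x = 1 → k * x * k⁻¹ = x) :
    ∀ x ∈ P, k * x * k⁻¹ = x := by
  have key : ∀ j : ℕ, ∀ x ∈ P, x ^ (2 ^ j) = 1 → k * x * k⁻¹ = x := by
    intro j
    induction j with
    | zero => intro x _ h; rw [pow_zero, pow_one] at h; simp [h]
    | succ j ih =>
      intro x hx h
      have h2 : k * (x * x) * k⁻¹ = x * x :=
        ih _ (P.mul_mem hx hx) (by rw [← pow_two, ← pow_mul, ← pow_succ']; exact h)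
      obtain ⟨w, hwdef⟩ : ∃ w, w = x⁻¹ * (k * x * k⁻¹) := ⟨_, rfl⟩
      have hw : w ∈ P := hwdef ▸ P.mul_mem (P.inv_mem hx) (hk x hx)
      have hkx : k * x * k⁻¹ = x * w := by rw [hwdef, mul_inv_cancel_left]
      have hw1 : w * w = 1 := by
        have e : k * (x * x) * k⁻¹ = x * x * (w * w) := by
          rw [show k * (x * x) * k⁻¹ = (k * x * k⁻¹) * (k * x * k⁻¹) by group, hkx,
            mul_assoc x w, ← mul_assoc w x w, hc w hw x hx, mul_assoc x w w, ← mul_assoc x x]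
        rw [h2] at e
        exact mul_eq_left.mp e.symm
      have hkw := hfix w hw hw1
      have hn : ∀ n : ℕ, k ^ n * x * (k ^ n)⁻¹ = x * w ^ n := by
        intro n
        induction n with
        | zero => simp
        | succ n ihn =>
          have hkwn : k * w ^ n * k⁻¹ = w ^ n := by rw [← conj_pow, hkw]
          rw [pow_succ' k, show k * k ^ n * x * (k * k ^ n)⁻¹ = k * (k ^ n * x * (k ^ n)⁻¹) * k⁻¹ by
            group, ihn, show k * (x * w ^ n) * k⁻¹ = (k * x * k⁻¹) * (k * w ^ n * k⁻¹) by group,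
            hkx, hkwn, mul_assoc, ← pow_succ']
      have hwk : w ^ orderOf k = 1 := by
        have := hn (orderOf k)
        rw [pow_orderOf_eq_one] at this
        simpa using this.symm
      obtain ⟨l, hl⟩ := hodd
      have : w = 1 := by
        rw [hl, pow_succ, pow_mul, pow_two, hw1, one_pow, one_mul] at hwk
        exact hwk
      rw [hkx, this, mul_one]
  intro x hx
  obtain ⟨j, hj⟩ := hP ⟨x, hx⟩
  exact key j x hx (congrArg Subtype.val hj)

variable {E : Type*} [Group E] [Finite E] {H : Subgroup E} (h : Hyp H)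

/-- The involutions of a Sylow 2-subgroup. -/
abbrev InvIn (P : Sylow 2 E) : Type _ := {t : E // orderOf t = 2 ∧ t ∈ (P : Subgroup E)}

omit [Finite E] in
theorem mem_smul_sylow {P : Sylow 2 E} {g x : E} :
    x ∈ ((g • P : Sylow 2 E) : Subgroup E) ↔ g⁻¹ * x * g ∈ (P : Subgroup E) := by
  rw [Sylow.coe_subgroup_smul, Subgroup.mem_pointwise_smul_iff_inv_smul_mem]
  simp

omit [Finite E] in
theorem mem_NP {P : Sylow 2 E} {g : E} : g ∈ NP P ↔ g • P = P :=
  (Sylow.smul_eq_iff_mem_normalizer).symm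

theorem card_invIn_eq (P Q : Sylow 2 E) : Nat.card (InvIn P) = Nat.card (InvIn Q) := by
  haveI : Fact (Nat.Prime 2) := ⟨Nat.prime_two⟩
  obtain ⟨g, rfl⟩ := MulAction.exists_smul_eq E P Q
  refine Nat.card_congr ((MulAut.conj g).toEquiv.subtypeEquiv fun t => ?_)
  show _ ↔ orderOf (MulAut.conj g t) = 2 ∧ MulAut.conj g t ∈ ((g • P : Sylow 2 E) : Subgroup E)
  rw [MulEquiv.orderOf_eq, mem_smul_sylow]
  simp [MulAut.conj_apply, mul_assoc]

include h

/-- The odd part `K` of a normalizer acts semilinearly on `Ω₁(P)`. -/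
theorem normalizer_bound (P : Sylow 2 E) : ∃ f, Nat.card (InvIn P) + 1 = 2 ^ f ∧ 1 ≤ f ∧
    Nat.card (InvIn P) ∣ Nat.card ↥(H ⊓ NP P) ∧
    Nat.card ↥(H ⊓ NP P) ≤ (2 ^ f - 1) * f := by
  haveI : Fact (Nat.Prime 2) := ⟨Nat.prime_two⟩
  classical
  let W : Subgroup E :=
    { carrier := {x | x ∈ (P : Subgroup E) ∧ x * x = 1}
      one_mem' := ⟨one_mem _, one_mul 1⟩
      mul_mem' := fun {a b} ha hb => ⟨mul_mem ha.1 hb.1, by
        rw [mul_assoc, ← mul_assoc b, h.sylow_comm P hb.1 ha.1, mul_assoc, hb.2, mul_one, ha.2]⟩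
      inv_mem' := fun {a} ha => ⟨inv_mem ha.1, by rw [← mul_inv_rev, ha.2, inv_one]⟩ }
  have hconj : ∀ k : ↥(H ⊓ NP P), ∀ x ∈ W, (k : E) * x * (k : E)⁻¹ ∈ W := fun k x hx =>
    ⟨(Subgroup.mem_normalizer_iff.mp k.2.2 x).mp hx.1, by
      rw [show (k : E) * x * (k : E)⁻¹ * ((k : E) * x * (k : E)⁻¹) = k * (x * x) * (k : E)⁻¹ by
        group, hx.2, mul_one, mul_inv_cancel]⟩
  letI : CommGroup W :=
    { (inferInstance : Group W) with
      mul_comm := fun a b => Subtype.ext (h.sylow_comm P a.2.1 b.2.1) }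
  let ψ : ↥(H ⊓ NP P) → (Additive W →+ Additive W) := fun k =>
    { toFun := fun v => Additive.ofMul ⟨(k : E) * (v.toMul : W) * (k : E)⁻¹,
        hconj k _ (v.toMul).2⟩
      map_zero' := congrArg Additive.ofMul (Subtype.ext (by simp))
      map_add' := fun u v => congrArg Additive.ofMul (Subtype.ext (by
        simp only [toMul_add, Subgroup.coe_mul, toMul_ofMul]; group)) }
  have hψ : ∀ (k : ↥(H ⊓ NP P)) (v : Additive W),
      (((ψ k v).toMul : W) : E) = (k : E) * (v.toMul : W) * (k : E)⁻¹ := fun _ _ => rfl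
  let φ : ↥(H ⊓ NP P) →* AddMonoid.End (Additive W) :=
    { toFun := ψ
      map_one' := by
        refine AddMonoidHom.ext fun v => ?_
        show ψ 1 v = v
        refine Additive.toMul.injective (Subtype.ext ?_)
        rw [hψ]; simp
      map_mul' := fun a b => by
        refine AddMonoidHom.ext fun v => ?_
        show ψ (a * b) v = ψ a (ψ b v)
        refine Additive.toMul.injective (Subtype.ext ?_)
        rw [hψ, hψ, hψ, Subgroup.coe_mul]; group }
  have hoddK : Odd (Nat.card ↥(H ⊓ NP P)) :=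
    (odd_card h).of_dvd_nat (Subgroup.card_dvd_of_le inf_le_left)
  have hbot := inf_eq_bot h P
  have hinj : Function.Injective φ := by
    intro a b e
    have hfix : ∀ x ∈ (P : Subgroup E), x * x = 1 →
        ((a⁻¹ * b : ↥(H ⊓ NP P)) : E) * x * ((a⁻¹ * b : ↥(H ⊓ NP P)) : E)⁻¹ = x := by
      intro x hx hx1
      have h1 := congrArg (fun ψ : AddMonoid.End (Additive W) =>
        ((ψ (Additive.ofMul ⟨x, hx, hx1⟩)).toMul : E)) e
      have h2 : (a : E) * x * (a : E)⁻¹ = (b : E) * x * (b : E)⁻¹ := h1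
      rw [Subgroup.coe_mul, Subgroup.coe_inv,
        show (a : E)⁻¹ * b * x * ((a : E)⁻¹ * b)⁻¹ = (a : E)⁻¹ * ((b : E) * x * (b : E)⁻¹) * a by
          group, ← h2]
      group
    have hc : ((a⁻¹ * b : ↥(H ⊓ NP P)) : E) ∈ (P : Subgroup E) := by
      refine h.centralizer_sylow P (Subgroup.mem_centralizer_iff.mpr fun x hx => ?_)
      refine (mul_inv_eq_iff_eq_mul.mp (centralizes_of_omega (P : Subgroup E) P.2
        (fun x hx y hy => h.sylow_comm P hx hy)
        (fun y hy => (Subgroup.mem_normalizer_iff.mp (a⁻¹ * b).2.2 y).mp hy)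
        ?_ hfix x hx)).symm
      rw [Subgroup.orderOf_coe]
      exact hoddK.of_dvd_nat (orderOf_dvd_natCard _)
    have h1 : ((a⁻¹ * b : ↥(H ⊓ NP P)) : E) ∈ H ⊓ (P : Subgroup E) := ⟨(a⁻¹ * b).2.1, hc⟩
    rw [hbot, Subgroup.mem_bot] at h1
    exact inv_mul_eq_one.mp (Subtype.ext h1)
  have htr : ∀ t u : InvIn P, ∃ k : ↥(H ⊓ NP P), (k : E) * t * (k : E)⁻¹ = u := by
    intro t u
    obtain ⟨n, hn, hnt⟩ := fusion h P t.2.1 u.2.1 t.2.2 u.2.2
    obtain ⟨s, hs, y, hy, e⟩ := h.exists_mul P n⁻¹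
    have e' : n = y⁻¹ * s⁻¹ := by rw [← inv_inj, e]; group
    refine ⟨⟨y⁻¹, H.inv_mem hy, ?_⟩, ?_⟩
    · rw [show y⁻¹ = n * s by rw [e']; group]
      exact mul_mem hn (Subgroup.le_normalizer hs)
    · have hst : s⁻¹ * (t : E) * s⁻¹⁻¹ = t := by rw [h.sylow_comm P (inv_mem hs) t.2.2]; group
      show y⁻¹ * (t : E) * y⁻¹⁻¹ = u
      rw [← hnt, e', show y⁻¹ * s⁻¹ * (t : E) * (y⁻¹ * s⁻¹)⁻¹ = y⁻¹ * (s⁻¹ * t * s⁻¹⁻¹) * y⁻¹⁻¹ by
        group, hst]
  obtain ⟨t, htP, hto⟩ := exists_invol_mem h P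
  haveI : Nontrivial (Additive W) :=
    ⟨⟨Additive.ofMul ⟨t, htP, (invol_of_order hto).1⟩, 0, fun e =>
      (invol_of_order hto).2.1 (congrArg (fun v : Additive W => ((v.toMul : W) : E)) e)⟩⟩
  obtain ⟨f, hf⟩ := (P.2.to_le (fun x hx => hx.1 : W ≤ (P : Subgroup E))).exists_card_eq
  have hcard : Nat.card (InvIn P) + 1 = 2 ^ f := by
    rw [← hf]
    let e : Option (InvIn P) ≃ W :=
      { toFun := fun o => o.elim 1 fun x => ⟨x.1, x.2.2, (invol_of_order x.2.1).1⟩
        invFun := fun w => if hw : (w : E) = 1 then none else some ⟨w, orderOf_two w.2.2 hw, w.2.1⟩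
        left_inv := fun o => by
          cases o with
          | none => simp
          | some x => simp [(invol_of_order x.2.1).2.1]
        right_inv := fun w => by
          by_cases hw : (w : E) = 1
          · simp [hw, ← OneMemClass.coe_eq_one]
            exact (OneMemClass.coe_eq_one.mp hw).symm
          · simp [hw] }
    rw [← Nat.card_congr e, Finite.card_option]
  haveI : Nonempty (InvIn P) := ⟨⟨t, hto, htP⟩⟩
  have hpos : 0 < Nat.card (InvIn P) := Nat.card_pos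
  refine ⟨f, hcard, ?_, ?_, ?_⟩
  · by_contra hf0
    rw [show f = 0 by omega, pow_zero] at hcard
    omega
  · refine card_dvd_of_surjective (H ⊓ NP P) (Subgroup.centralizer ({t} : Set E))
      (fun k => (⟨(k : E) * t * (k : E)⁻¹, by
        rw [← MulAut.conj_apply, MulEquiv.orderOf_eq, hto],
        (Subgroup.mem_normalizer_iff.mp k.2.2 t).mp htP⟩ : InvIn P)) (fun a b => ?_) fun u => ?_
    · simp only [Subtype.ext_iff]
      rw [Subgroup.mem_centralizer_singleton_iff]
      constructor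
      · intro e
        calc (a : E)⁻¹ * b * t = (a : E)⁻¹ * ((b : E) * t * (b : E)⁻¹) * b := by group
          _ = (a : E)⁻¹ * ((a : E) * t * (a : E)⁻¹) * b := by rw [← e]
          _ = t * ((a : E)⁻¹ * b) := by group
      · intro e
        calc (a : E) * t * (a : E)⁻¹ = (a : E) * (t * ((a : E)⁻¹ * b)) * (b : E)⁻¹ := by group
          _ = (a : E) * ((a : E)⁻¹ * b * t) * (b : E)⁻¹ := by rw [e]
          _ = (b : E) * t * (b : E)⁻¹ := by group
    · obtain ⟨k, hk⟩ := htr ⟨t, hto, htP⟩ u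
      exact ⟨k, Subtype.ext hk⟩
  · refine card_le_of_transitive hoddK (h.ab.of_injective (H ⊓ NP P).subtype
      (Subgroup.subtype_injective _)) (fun v => ?_) φ hinj (fun v w hv hw => ?_)
      (by rw [Nat.card_congr Additive.toMul]; exact hf)
    · exact congrArg Additive.ofMul (Subtype.ext (v.toMul).2.2)
    · have hne : ∀ v : Additive W, v ≠ 0 → ((v.toMul : W) : E) ≠ 1 := fun v hv e =>
        hv (congrArg Additive.ofMul (Subtype.ext e))
      obtain ⟨k, hk⟩ := htr ⟨_, orderOf_two (v.toMul).2.2 (hne v hv), (v.toMul).2.1⟩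
        ⟨_, orderOf_two (w.toMul).2.2 (hne w hw), (w.toMul).2.1⟩
      exact ⟨k, congrArg Additive.ofMul (Subtype.ext hk)⟩

/-- An involution normalizing the full `r`-part of `NP P` centralizes it. -/
theorem invol_centralizes (P : Sylow 2 E) {r : ℕ} [hr : Fact r.Prime] (hr2 : r ≠ 2)
    {R : Subgroup E} (hRN : R ≤ NP P) (hR : Nat.card R = r ^ (Nat.card (NP P)).factorization r)
    {s : E} (hs : orderOf s = 2) (hsR : ∀ x ∈ R, s * x * s⁻¹ ∈ R) :
    ∀ x ∈ R, s * x = x * s := by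
  classical
  haveI : Fact (Nat.Prime 2) := ⟨Nat.prime_two⟩
  set K := H ⊓ NP P with hK
  have hrK : (Nat.card (NP P)).factorization r = (Nat.card K).factorization r := by
    obtain ⟨j, hj⟩ := P.2.exists_card_eq
    rw [card_normalizer h P, hj,
      Nat.factorization_mul Nat.card_pos.ne' (pow_ne_zero _ two_ne_zero), Finsupp.add_apply,
      Nat.Prime.factorization_pow Nat.prime_two, Finsupp.single_eq_of_ne hr2, add_zero]
  obtain ⟨R', hR'⟩ : ∃ R' : Subgroup K, Nat.card R' = r ^ (Nat.card K).factorization r :=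
    Sylow.exists_subgroup_card_pow_prime r (Nat.ordProj_dvd _ _)
  have hR1 : Nat.card (R'.map K.subtype) = r ^ (Nat.card (NP P)).factorization r := by
    rw [Subgroup.card_map_of_injective K.subtype_injective, hR', hrK]
  obtain ⟨n, hn, hnR⟩ := exists_conj_of_card hRN
    ((Subgroup.map_subtype_le R').trans inf_le_right) hR hR1
  set A := R'.map K.subtype with hA
  have hAK : A ≤ K := Subgroup.map_subtype_le R'
  obtain ⟨s', hs'def⟩ : ∃ s', s' = n * s * n⁻¹ := ⟨_, rfl⟩
  have hs' : orderOf s' = 2 := by rw [hs'def, ← MulAut.conj_apply, MulEquiv.orderOf_eq, hs]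
  have hs'A : ∀ x, x ∈ A ↔ s' * x * s'⁻¹ ∈ A := by
    have h1 : ∀ x ∈ A, s' * x * s'⁻¹ ∈ A := by
      intro x hx
      have := (hnR _).mp (hsR _ ((hnR (n⁻¹ * x * n)).mpr (by
        rwa [show n * (n⁻¹ * x * n) * n⁻¹ = x by group])))
      rwa [show n * (s * (n⁻¹ * x * n) * s⁻¹) * n⁻¹ = s' * x * s'⁻¹ by rw [hs'def]; group] at this
    obtain ⟨hq, -, hinv⟩ := invol_of_order hs'
    refine fun x => ⟨h1 x, fun hx => ?_⟩
    have := h1 _ hx
    rwa [hinv, ← mul_assoc, ← mul_assoc, hq, one_mul, mul_assoc, hq, mul_one] at this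
  -- the Sylow subgroups normalized by `A`
  let Fix : Type _ := {Q : Sylow 2 E // A ≤ NP Q}
  set X := H ⊓ Subgroup.normalizer (A : Set E) with hX
  have hsm : ∀ (g : E) (Q : Sylow 2 E) (x : E), x ∈ NP (g • Q) ↔ g⁻¹ * x * g ∈ NP Q := by
    intro g Q x
    rw [mem_NP, mem_NP, mul_smul, mul_smul, inv_smul_eq_iff]
  have hdvd : Nat.card Fix ∣ Nat.card X := by
    refine card_dvd_of_surjective X (NP P)
      (fun y => (⟨(y : E) • P, fun x hx => (hsm _ P x).mpr ((hAK.trans inf_le_right) ?_)⟩ : Fix))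
      (fun a b => ?_) fun Q => ?_
    · have := (Subgroup.mem_normalizer_iff.mp (inv_mem (Subgroup.mem_inf.mp y.2).2) x).mp hx
      rwa [inv_inv] at this
    · rw [Subtype.ext_iff, mem_NP, mul_smul, inv_smul_eq_iff, eq_comm]
    · obtain ⟨g, hg⟩ := MulAction.exists_smul_eq E P Q.1
      obtain ⟨u, hu, y, hy, e⟩ := h.exists_mul P g⁻¹
      have e' : g = y⁻¹ * u⁻¹ := by rw [← inv_inj, e]; group
      have hQy : y⁻¹ • P = Q.1 := by
        rw [← hg, e', mul_smul, Sylow.smul_eq_iff_mem_normalizer.mpr (inv_mem (Subgroup.le_normalizer hu))]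
      let B : Subgroup E := A.map (MulAut.conj y).toMonoidHom
      have hAK' : ∀ x ∈ A, y * x * y⁻¹ ∈ K := fun x hx => ⟨H.mul_mem (H.mul_mem hy (hAK hx).1)
        (H.inv_mem hy), by
          have := (hsm y⁻¹ P x).mp (hQy ▸ Q.2 hx)
          rwa [inv_inv] at this⟩
      obtain ⟨k, hk, hkB⟩ := exists_conj_of_card (r := r) hAK
        (show B ≤ K by rintro _ ⟨x, hx, rfl⟩; exact hAK' x hx) (hR1.trans (by rw [hrK]))
        ((Subgroup.card_map_of_injective (MulEquiv.injective _)).trans (hR1.trans (by rw [hrK])))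
      have hkN : k ∈ NP P := hk.2
      refine ⟨⟨y⁻¹ * k, H.mul_mem (H.inv_mem hy) hk.1, ?_⟩, Subtype.ext ?_⟩
      · show y⁻¹ * k ∈ Subgroup.normalizer (A : Set E)
        rw [Subgroup.mem_normalizer_iff]
        intro x
        rw [hkB x]
        constructor
        · rintro ⟨z, hz, hzx⟩
          have hzx' : y * z * y⁻¹ = k * x * k⁻¹ := hzx
          have : y⁻¹ * k * x * (y⁻¹ * k)⁻¹ = z := by
            rw [show y⁻¹ * k * x * (y⁻¹ * k)⁻¹ = y⁻¹ * (k * x * k⁻¹) * y by group, ← hzx']; group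
          rwa [this]
        · intro hz
          exact ⟨_, hz, show y * (y⁻¹ * k * x * (y⁻¹ * k)⁻¹) * y⁻¹ = k * x * k⁻¹ by group⟩
      · show (y⁻¹ * k) • P = Q.1
        rw [mul_smul, Sylow.smul_eq_iff_mem_normalizer.mpr hkN, hQy]
  have hoddFix : ¬ 2 ∣ Nat.card Fix := fun h2 => by
    have := ((odd_card h).of_dvd_nat (Subgroup.card_dvd_of_le (inf_le_left : X ≤ H))).of_dvd_nat hdvd
    exact Nat.not_even_iff_odd.mpr this (even_iff_two_dvd.mpr h2)
  let σ : Equiv.Perm Fix :=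
    { toFun := fun Q => ⟨s' • Q.1, fun x hx => (hsm _ _ x).mpr (Q.2 ((by
        obtain ⟨-, -, hinv⟩ := invol_of_order hs'
        have := (hs'A x).mp hx
        rwa [hinv] at this ⊢)))⟩
      invFun := fun Q => ⟨s' • Q.1, fun x hx => (hsm _ _ x).mpr (Q.2 ((by
        obtain ⟨-, -, hinv⟩ := invol_of_order hs'
        have := (hs'A x).mp hx
        rwa [hinv] at this ⊢)))⟩
      left_inv := fun Q => Subtype.ext (by
        show s' • s' • Q.1 = Q.1
        rw [← mul_smul, (invol_of_order hs').1, one_smul])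
      right_inv := fun Q => Subtype.ext (by
        show s' • s' • Q.1 = Q.1
        rw [← mul_smul, (invol_of_order hs').1, one_smul]) }
  haveI : Fintype Fix := Fintype.ofFinite _
  rw [Nat.card_eq_fintype_card] at hoddFix
  obtain ⟨Q, hQ⟩ := Equiv.Perm.exists_fixed_point_of_prime (n := 1) hoddFix (σ := σ) (by
    rw [pow_one, pow_two]
    exact Equiv.ext fun Q => σ.left_inv Q)
  have hsQ : s' ∈ (Q.1 : Subgroup E) := mem_of_invol_normalizes Q.1 hs'
    (Sylow.smul_eq_iff_mem_normalizer.mp (congrArg Subtype.val hQ))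
  have hAQ : A ⊓ (Q.1 : Subgroup E) = ⊥ := by
    refine Subgroup.inf_eq_bot_of_coprime ?_
    obtain ⟨j, hj⟩ := Q.1.2.exists_card_eq
    rw [hR1, hj]
    exact Nat.Coprime.pow _ _ ((Nat.coprime_primes hr.out Nat.prime_two).mpr hr2)
  intro x hx
  obtain ⟨y, hy⟩ : ∃ y, y = n * x * n⁻¹ := ⟨_, rfl⟩
  have hyA : y ∈ A := hy ▸ (hnR x).mp hx
  have hc : s' * y * s'⁻¹ * y⁻¹ ∈ A ⊓ (Q.1 : Subgroup E) := by
    refine ⟨A.mul_mem ((hs'A y).mp hyA) (A.inv_mem hyA), ?_⟩
    rw [show s' * y * s'⁻¹ * y⁻¹ = s' * (y * s'⁻¹ * y⁻¹) by group]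
    exact mul_mem hsQ ((Subgroup.mem_normalizer_iff.mp (Q.2 hyA) _).mp (inv_mem hsQ))
  rw [hAQ, Subgroup.mem_bot, mul_inv_eq_one, mul_inv_eq_iff_eq_mul, hs'def, hy] at hc
  calc s * x = n⁻¹ * (n * s * n⁻¹ * (n * x * n⁻¹)) * n := by group
    _ = n⁻¹ * (n * x * n⁻¹ * (n * s * n⁻¹)) * n := by rw [hc]
    _ = x * s := by group

theorem Hyp.false : False := by
  classical
  haveI : Fact (Nat.Prime 2) := ⟨Nat.prime_two⟩
  obtain ⟨P⟩ : Nonempty (Sylow 2 E) := inferInstance
  obtain ⟨f, hf, hf1, hdiv, hbound⟩ := normalizer_bound h P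
  by_cases hf2 : f = 1
  · -- the normalizer is `P`: transfer
    have hK : Nat.card ↥(H ⊓ NP P) = 1 := by
      rw [hf2] at hbound
      have := Nat.card_pos (α := ↥(H ⊓ NP P))
      omega
    have hNP : NP P = (P : Subgroup E) :=
      (Subgroup.eq_of_le_of_card_ge Subgroup.le_normalizer
        (by rw [card_normalizer h P, hK, one_mul])).symm
    have hle : NP P ≤ Subgroup.centralizer ((P : Subgroup E) : Set E) := fun x hx =>
      Subgroup.mem_centralizer_iff.mpr fun y hy => h.sylow_comm P hy (hNP ▸ hx)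
    have hcompl := MonoidHom.ker_transferSylow_isComplement' P hle
    haveI := h.simple
    rcases (MonoidHom.normal_ker (MonoidHom.transferSylow P hle)).eq_bot_or_eq_top with e | e
    · rw [e, Subgroup.isComplement'_bot_left] at hcompl
      exact h.normalizer_ne_top P (hNP.trans hcompl)
    · rw [e, Subgroup.isComplement'_top_left] at hcompl
      exact h.sylow_ne_bot P hcompl
  obtain ⟨r, hr, hrd, hfr⟩ := exists_prime_gt (show 2 ≤ f by omega)
  haveI := Fact.mk hr
  have hq : Nat.card (InvIn P) = 2 ^ f - 1 := by omega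
  have hr2 : r ≠ 2 := by omega
  -- many involutions map `P` to one other Sylow subgroup
  haveI : Nonempty {Q : Sylow 2 E // Q ≠ P} :=
    let ⟨Q, hQ⟩ := exists_ne_sylow h P; ⟨⟨Q, hQ⟩⟩
  let T : Type _ := {t : E // orderOf t = 2 ∧ t ∉ (P : Subgroup E)}
  let m : T → {Q : Sylow 2 E // Q ≠ P} := fun t => ⟨t.1 • P, fun e =>
    t.2.2 (mem_of_invol_normalizes P t.2.1 (Sylow.smul_eq_iff_mem_normalizer.mp e))⟩
  have hT : Nat.card T = Nat.card {Q : Sylow 2 E // Q ≠ P} * Nat.card (InvIn P) := by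
    let e : (Σ Q : {Q : Sylow 2 E // Q ≠ P}, InvIn Q.1) ≃ T :=
      Equiv.ofBijective (fun x => ⟨x.2.1, x.2.2.1, fun hx =>
        x.1.2 (sylow_eq_of_invol h _ P x.2.2.1 x.2.2.2 hx)⟩) ⟨by
        rintro ⟨⟨Q, hQ⟩, t, ht⟩ ⟨⟨Q', hQ'⟩, t', ht'⟩ e
        obtain rfl : t = t' := congrArg Subtype.val e
        obtain rfl := sylow_eq_of_invol h Q Q' ht.1 ht.2 ht'.2
        rfl, fun t => by
        obtain ⟨Q, hQ⟩ := exists_sylow_invol t.2.1
        exact ⟨⟨⟨Q, fun e => t.2.2 (e ▸ hQ)⟩, t.1, t.2.1, hQ⟩, rfl⟩⟩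
    haveI : Fintype {Q : Sylow 2 E // Q ≠ P} := Fintype.ofFinite _
    rw [← Nat.card_congr e, Nat.card_sigma]
    simp [card_invIn_eq _ P]
  haveI : Fintype T := Fintype.ofFinite _
  haveI : Fintype {Q : Sylow 2 E // Q ≠ P} := Fintype.ofFinite _
  obtain ⟨⟨P', hP'⟩, hfib⟩ := Fintype.exists_le_card_fiber_of_mul_le_card m
    (n := Nat.card (InvIn P)) (by rw [← Nat.card_eq_fintype_card, ← Nat.card_eq_fintype_card, hT])
  set fib := Finset.univ.filter (fun t : T => m t = ⟨P', hP'⟩) with hfibdef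
  have hmem : ∀ t ∈ fib, (t : T).1 • P = P' := fun t ht =>
    congrArg Subtype.val ((Finset.mem_filter.mp ht).2)
  have hback : ∀ t ∈ fib, (t : T).1 • P' = P := fun t ht => by
    rw [← hmem t ht, ← mul_smul, (invol_of_order t.2.1).1, one_smul]
  set D := NP P ⊓ NP P' with hD
  have hDodd : Odd (Nat.card D) := Nat.not_even_iff_odd.mp fun he => by
    obtain ⟨⟨t, htD⟩, hto⟩ :=
      exists_prime_orderOf_dvd_card' (G := D) 2 (even_iff_two_dvd.mp he)
    rw [Subgroup.orderOf_mk] at hto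
    exact hP' (sylow_eq_of_invol h _ _ hto (mem_of_invol_normalizes _ hto htD.2)
      (mem_of_invol_normalizes _ hto htD.1))
  -- the fibre is small for each swapping involution
  have hindex : ∀ s : E, orderOf s = 2 → s • P = P' →
      2 ^ f - 1 ≤ ((Subgroup.centralizer ({s} : Set E)).subgroupOf D).index := by
    intro s hs hsP
    rw [← hq]
    refine hfib.trans ?_
    rw [Subgroup.index, show fib.card = Nat.card {t : T // t ∈ fib} by simp]
    have hex : ∀ t : {t : T // t ∈ fib}, ∃ d : D, (d : E) * s * (d : E)⁻¹ = t.1.1 := by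
      intro ⟨t, ht⟩
      obtain ⟨hs1, -, hs3⟩ := invol_of_order hs
      obtain ⟨ht1, -, ht3⟩ := invol_of_order t.2.1
      obtain ⟨u, hu⟩ : ∃ u, u = s * t.1 := ⟨_, rfl⟩
      have huD : u ∈ D := by
        constructor
        · refine Sylow.smul_eq_iff_mem_normalizer.mp ?_
          rw [hu, mul_smul, hmem t ht, ← hsP, ← mul_smul, hs1, one_smul]
        · refine Sylow.smul_eq_iff_mem_normalizer.mp ?_
          rw [hu, mul_smul, hback t ht, hsP]
      obtain ⟨l, hl⟩ := hDodd.of_dvd_nat (D.orderOf_dvd_natCard huD)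
      refine ⟨⟨(u ^ (l + 1))⁻¹, inv_mem (pow_mem huD _)⟩, ?_⟩
      have h1 : s * u = u⁻¹ * s := by
        rw [hu, mul_inv_rev, ht3, hs3, ← mul_assoc, hs1, one_mul, mul_assoc, hs1, mul_one]
      have h2 : s * u ^ (l + 1) = (u ^ (l + 1))⁻¹ * s := by
        rw [← inv_pow]
        exact SemiconjBy.pow_right (a := s) (x := u) (y := u⁻¹) h1 (l + 1)
      show (u ^ (l + 1))⁻¹ * s * (u ^ (l + 1))⁻¹⁻¹ = t.1
      rw [inv_inv, ← h2, mul_assoc, ← pow_add, show l + 1 + (l + 1) = orderOf u + 1 by omega,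
        pow_succ, pow_orderOf_eq_one, one_mul, hu, ← mul_assoc, hs1, one_mul]
    choose d hd using hex
    refine Nat.card_le_card_of_injective
      (fun t => (QuotientGroup.mk (d t) : D ⧸ _)) fun t₁ t₂ e => ?_
    have h3 : ((d t₁ : E))⁻¹ * (d t₂ : E) ∈ Subgroup.centralizer ({s} : Set E) :=
      ((QuotientGroup.eq (s := (Subgroup.centralizer ({s} : Set E)).subgroupOf D)
        (a := d t₁) (b := d t₂)).mp e :)
    rw [Subgroup.mem_centralizer_singleton_iff] at h3
    apply Subtype.ext; apply Subtype.ext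
    rw [← hd t₁, ← hd t₂]
    calc (d t₁ : E) * s * (d t₁ : E)⁻¹
        = (d t₁ : E) * (s * ((d t₁ : E)⁻¹ * d t₂)) * (d t₂ : E)⁻¹ := by group
      _ = (d t₁ : E) * ((d t₁ : E)⁻¹ * d t₂ * s) * (d t₂ : E)⁻¹ := by rw [h3]
      _ = (d t₂ : E) * s * (d t₂ : E)⁻¹ := by group
  obtain ⟨t₀, ht₀⟩ : ∃ t₀, t₀ ∈ fib := by
    refine Finset.card_pos.mp (lt_of_lt_of_le ?_ hfib)
    rw [hq]
    have : 2 ≤ 2 ^ f := by rw [← Nat.pow_one 2] ; exact Nat.pow_le_pow_right two_pos hf1
    omega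
  have hDK : Nat.card D ∣ Nat.card ↥(H ⊓ NP P) := card_dvd_inf h inf_le_left hDodd
  have hrK : r ∣ Nat.card ↥(H ⊓ NP P) := hrd.trans (hq ▸ hdiv)
  obtain ⟨c, hc⟩ := hDK
  haveI : Nonempty (InvIn P) := let ⟨t, h1, h2⟩ := exists_invol_mem h P; ⟨⟨t, h2, h1⟩⟩
  have hlt : (2 ^ f - 1) * f < (2 ^ f - 1) * r :=
    Nat.mul_lt_mul_of_pos_left hfr (by rw [← hq]; exact Nat.card_pos)
  by_cases hrc : r ∣ c
  · have h1 := hindex t₀.1 t₀.2.1 (hmem t₀ ht₀)
    have h2 : ((Subgroup.centralizer ({t₀.1} : Set E)).subgroupOf D).index ≤ Nat.card D :=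
      Nat.le_of_dvd Nat.card_pos (Subgroup.index_dvd_card _)
    have hc0 : c ≠ 0 := fun e => by rw [e, mul_zero] at hc; exact Nat.card_pos.ne' hc
    have := Nat.mul_le_mul (h1.trans h2) (Nat.le_of_dvd (Nat.pos_of_ne_zero hc0) hrc)
    rw [← hc] at this
    omega
  -- a full `r`-part of the stabilizer
  have hrD : (Nat.card D).factorization r = (Nat.card (NP P)).factorization r := by
    obtain ⟨j, hj⟩ := P.2.exists_card_eq
    rw [card_normalizer h P, hj,
      Nat.factorization_mul Nat.card_pos.ne' (pow_ne_zero _ two_ne_zero), Finsupp.add_apply,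
      Nat.Prime.factorization_pow Nat.prime_two, Finsupp.single_eq_of_ne hr2, add_zero, hc,
      Nat.factorization_mul Nat.card_pos.ne' (show c ≠ 0 from fun e => hrc (e.symm ▸ dvd_zero r)), Finsupp.add_apply,
      Nat.factorization_eq_zero_of_not_dvd hrc, add_zero]
  obtain ⟨R', hR'⟩ : ∃ R' : Subgroup D, Nat.card R' = r ^ (Nat.card D).factorization r :=
    Sylow.exists_subgroup_card_pow_prime r (Nat.ordProj_dvd _ _)
  set R := R'.map D.subtype with hR
  have hRD : R ≤ D := Subgroup.map_subtype_le R'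
  have hRc : Nat.card R = r ^ (Nat.card D).factorization r := by
    rw [hR, Subgroup.card_map_of_injective D.subtype_injective, hR']
  obtain ⟨⟨t, ht⟩, htdef⟩ : ∃ t : {t : T // t ∈ fib}, t = ⟨t₀, ht₀⟩ := ⟨_, rfl⟩
  have htD : ∀ x ∈ D, t.1 * x * t.1⁻¹ ∈ D := by
    intro x hx
    obtain ⟨-, -, hinv⟩ := invol_of_order t.2.1
    constructor <;> refine Sylow.smul_eq_iff_mem_normalizer.mp ?_
    · rw [mul_smul, mul_smul, hinv, hmem t ht,
        Sylow.smul_eq_iff_mem_normalizer.mpr hx.2, hback t ht]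
    · rw [mul_smul, mul_smul, hinv, hback t ht,
        Sylow.smul_eq_iff_mem_normalizer.mpr hx.1, hmem t ht]
  obtain ⟨d, hd, hdR⟩ := exists_conj_of_card (r := r) (N := D)
    (show R.map (MulAut.conj t.1).toMonoidHom ≤ D by rintro _ ⟨x, hx, rfl⟩; exact htD x (hRD hx))
    hRD ((Subgroup.card_map_of_injective (MulEquiv.injective _)).trans hRc) hRc
  obtain ⟨g, hg⟩ : ∃ g, g = d * t.1 := ⟨_, rfl⟩
  have hgR : ∀ x ∈ R, g * x * g⁻¹ ∈ R := fun x hx => by
    have := (hdR (t.1 * x * t.1⁻¹)).mp ⟨x, hx, rfl⟩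
    rwa [show d * (t.1 * x * t.1⁻¹) * d⁻¹ = g * x * g⁻¹ by rw [hg]; group] at this
  have hgP : g • P = P' := by
    rw [hg, mul_smul, hmem t ht, Sylow.smul_eq_iff_mem_normalizer.mpr hd.2]
  have hgP' : g • P' = P := by
    rw [hg, mul_smul, hback t ht, Sylow.smul_eq_iff_mem_normalizer.mpr hd.1]
  have hg2 : g * g ∈ D := ⟨Sylow.smul_eq_iff_mem_normalizer.mp (by rw [mul_smul, hgP, hgP']),
    Sylow.smul_eq_iff_mem_normalizer.mp (by rw [mul_smul, hgP', hgP])⟩
  obtain ⟨k, hk⟩ := hDodd.of_dvd_nat (D.orderOf_dvd_natCard hg2)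
  obtain ⟨s, hsdef⟩ : ∃ s, s = g ^ (2 * k + 1) := ⟨_, rfl⟩
  have hsP : s • P = P' := by
    have : ∀ i : ℕ, g ^ (2 * i + 1) • P = P' := fun i => by
      induction i with
      | zero => simpa using hgP
      | succ i ih =>
        rw [show 2 * (i + 1) + 1 = 2 + (2 * i + 1) by ring, pow_add, mul_smul, ih, pow_two,
          mul_smul, hgP', hgP]
    rw [hsdef]; exact this k
  have hs : orderOf s = 2 := by
    refine orderOf_two ?_ fun e => hP' (by rw [← hsP, e, one_smul])
    rw [hsdef, ← (Commute.refl g).mul_pow, ← hk]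
    exact pow_orderOf_eq_one _
  have hsR : ∀ x ∈ R, s * x * s⁻¹ ∈ R := by
    have : ∀ i : ℕ, ∀ x ∈ R, g ^ i * x * (g ^ i)⁻¹ ∈ R := fun i => by
      induction i with
      | zero => simp
      | succ i ih =>
        intro x hx
        rw [pow_succ', show g * g ^ i * x * (g * g ^ i)⁻¹ = g * (g ^ i * x * (g ^ i)⁻¹) * g⁻¹ by
          group]
        exact hgR _ (ih x hx)
    rw [hsdef]; exact this _
  have hcen := invol_centralizes h P hr2 (hRD.trans inf_le_left) (by rw [hRc, hrD]) hs hsR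
  have h1 := hindex s hs hsP
  have h2 : Nat.card R ≤ Nat.card ((Subgroup.centralizer ({s} : Set E)).subgroupOf D) := by
    rw [← Nat.card_congr (Subgroup.subgroupOfEquivOfLe hRD).toEquiv]
    exact Subgroup.card_le_of_le fun x hx =>
      Subgroup.mem_centralizer_singleton_iff.mpr (hcen x hx).symm
  have hrR : r ≤ Nat.card R := by
    rw [hRc]
    refine Nat.le_self_pow ?_ _
    rw [hrD]
    exact (Nat.Prime.factorization_pos_of_dvd hr Nat.card_pos.ne' ((card_normalizer h P) ▸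
      hrK.mul_right _)).ne'
  have h3 := Nat.mul_le_mul h1 (hrR.trans h2)
  rw [Subgroup.index_mul_card] at h3
  have h4 : Nat.card D ≤ Nat.card ↥(H ⊓ NP P) := Nat.le_of_dvd Nat.card_pos ⟨c, hc⟩
  omega

omit h in
/-- A perfect finite group with abelian Sylow subgroups has no proper subgroup of 2-power index. -/
theorem eq_top_aux : ∀ (n : ℕ) {E : Type u} [Group E] [Finite E], Nat.card E = n → AbSylow E →
    commutator E = ⊤ → ∀ H : Subgroup E, (∃ a, H.index = 2 ^ a) → H = ⊤ := by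
  intro n
  induction n using Nat.strongRec with
  | _ n ih =>
    intro E _ _ hn hA hperf H ha
    classical
    haveI : Fact (Nat.Prime 2) := ⟨Nat.prime_two⟩
    by_contra hH
    obtain ⟨a, ha⟩ := ha
    -- perfect proper subgroups
    have hsub : ∀ D : Subgroup E, D ≠ ⊤ → ⁅D, D⁆ = D → (∃ b, H.relIndex D = 2 ^ b) → D ≤ H := by
      intro D hD hDp hb
      have hlt : Nat.card D < n := by
        rw [← hn]
        exact lt_of_le_of_ne (Subgroup.card_le_card_group D) fun e =>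
          hD (Subgroup.eq_top_of_card_eq D e)
      have hc : commutator D = ⊤ := by
        apply Subgroup.map_injective D.subtype_injective
        rw [commutator_def, Subgroup.map_commutator, ← MonoidHom.range_eq_map,
          Subgroup.range_subtype, hDp]
      have h1 := ih _ hlt rfl (hA.of_injective D.subtype D.subtype_injective) hc (H.subgroupOf D) hb
      exact Subgroup.subgroupOf_eq_top.mp h1
    by_cases hsimple : IsSimpleGroup E
    · exact Hyp.false ⟨hsimple, hA, hperf, hH, ⟨a, ha⟩, hsub⟩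
    haveI : Nontrivial E := by
      by_contra hnt
      rw [not_nontrivial_iff_subsingleton] at hnt
      exact hH (Subsingleton.elim _ _)
    obtain ⟨N₀, hN₀n, hN₀b, hN₀t⟩ : ∃ N : Subgroup E, N.Normal ∧ N ≠ ⊥ ∧ N ≠ ⊤ := by
      by_contra hno
      push Not at hno
      exact hsimple ⟨fun N hN => or_iff_not_imp_left.mpr fun h1 => hno N hN h1⟩
    obtain ⟨N, hN⟩ := Set.Finite.exists_minimal
      (s := {N : Subgroup E | N.Normal ∧ N ≠ ⊥ ∧ N ≠ ⊤}) (Set.toFinite _) ⟨N₀, hN₀n, hN₀b, hN₀t⟩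
    obtain ⟨hNn, hNb, hNt⟩ := hN.prop
    haveI := hNn
    have hsup : H ⊔ N = ⊤ := by
      have hcq : Nat.card (E ⧸ N) < n := by
        rw [← hn, Subgroup.card_eq_card_quotient_mul_card_subgroup N]
        exact lt_mul_of_one_lt_right Nat.card_pos
          ((Subgroup.one_lt_card_iff_ne_bot N).mpr hNb)
      have hperf' : commutator (E ⧸ N) = ⊤ := by
        rw [commutator_def, ← Subgroup.map_top_of_surjective _ (QuotientGroup.mk'_surjective N),
          ← Subgroup.map_commutator, ← commutator_def, hperf]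
      have hidx : (H.map (QuotientGroup.mk' N)).index ∣ 2 ^ a :=
        ha ▸ H.index_map_dvd (QuotientGroup.mk'_surjective N)
      obtain ⟨b, -, hb⟩ := (Nat.dvd_prime_pow Nat.prime_two).mp hidx
      have h1 := ih _ hcq rfl (hA.of_surjective _ (QuotientGroup.mk'_surjective N)) hperf'
        (H.map (QuotientGroup.mk' N)) ⟨b, hb⟩
      have h2 := congrArg (Subgroup.comap (QuotientGroup.mk' N)) h1
      rwa [Subgroup.comap_map_eq, QuotientGroup.ker_mk', Subgroup.comap_top] at h2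
    refine hH (top_le_iff.mp (hsup ▸ sup_le le_rfl ?_))
    have hdvd : H.relIndex N ∣ 2 ^ a := ha ▸ relIndex_normal_dvd_index H N
    obtain ⟨b, -, hb⟩ := (Nat.dvd_prime_pow Nat.prime_two).mp hdvd
    haveI : (⁅N, N⁆).Normal := Subgroup.commutator_normal N N
    by_cases hab : ⁅N, N⁆ = ⊥
    swap
    · refine hsub N hNt (le_antisymm (Subgroup.commutator_le_left N N) ?_) ⟨b, hb⟩
      exact hN.le_of_le ⟨inferInstance, hab, fun e => hNt (top_le_iff.mp (e ▸
        Subgroup.commutator_le_left N N))⟩ (Subgroup.commutator_le_left N N)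
    by_cases hodd : Odd (Nat.card N)
    · exact Subgroup.relIndex_eq_one.mp (Nat.eq_one_of_dvd_coprimes
        (Nat.Coprime.pow_left a (Nat.coprime_two_left.mpr hodd)) hdvd (H.relIndex_dvd_card N))
    -- an abelian normal subgroup of even order would be central
    exfalso
    have hcomm : ∀ x ∈ N, ∀ y ∈ N, x * y = y * x := fun x hx y hy =>
      (commutatorElement_eq_one_iff_mul_comm).mp
        ((Subgroup.mem_bot).mp (hab ▸ Subgroup.commutator_mem_commutator hx hy))
    let N₂ : Subgroup E :=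
      { carrier := {x | x ∈ N ∧ x * x = 1}
        one_mem' := ⟨one_mem _, one_mul 1⟩
        mul_mem' := fun {x y} hx hy => ⟨mul_mem hx.1 hy.1, by
          rw [mul_assoc, ← mul_assoc y, hcomm y hy.1 x hx.1, mul_assoc, hy.2, mul_one, hx.2]⟩
        inv_mem' := fun {x} hx => ⟨inv_mem hx.1, by rw [← mul_inv_rev, hx.2, inv_one]⟩ }
    haveI hN₂n : N₂.Normal := ⟨fun x hx g => ⟨hNn.conj_mem x hx.1 g, by
      rw [show g * x * g⁻¹ * (g * x * g⁻¹) = g * (x * x) * g⁻¹ by group, hx.2, mul_one,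
        mul_inv_cancel]⟩⟩
    obtain ⟨⟨z, hzN⟩, hzo⟩ := exists_prime_orderOf_dvd_card' (G := N) 2
      (even_iff_two_dvd.mp (Nat.not_odd_iff_even.mp hodd))
    rw [Subgroup.orderOf_mk] at hzo
    obtain ⟨hz1, hz2, -⟩ := invol_of_order hzo
    have hN2 : N ≤ N₂ := hN.le_of_le ⟨hN₂n, fun e => hz2 ((Subgroup.mem_bot).mp
      (e ▸ (⟨hzN, hz1⟩ : z ∈ N₂))), fun e => hNt (top_le_iff.mp
      (e ▸ (fun x hx => hx.1 : N₂ ≤ N)))⟩ (fun x hx => hx.1)
    have hNp : IsPGroup 2 N := fun x => ⟨1, Subtype.ext (by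
      rw [pow_one, Subgroup.coe_pow, pow_two]; exact (hN2 x.2).2)⟩
    obtain ⟨P, hP⟩ := hNp.exists_le_sylow
    haveI : (Subgroup.centralizer (N : Set E)).Normal := Subgroup.normal_centralizer
    have hPC : (P : Subgroup E) ≤ Subgroup.centralizer (N : Set E) := fun s hs =>
      Subgroup.mem_centralizer_iff.mpr fun x hx => hA 2 P x (hP hx) s hs
    have hodd' : Odd (Nat.card (E ⧸ Subgroup.centralizer (N : Set E))) := by
      rw [← Subgroup.index_eq_card]
      refine Nat.not_even_iff_odd.mp fun he => P.not_dvd_index ?_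
      exact (even_iff_two_dvd.mp he).trans (Subgroup.index_dvd_of_le hPC)
    have htop : Subgroup.centralizer (N : Set E) = ⊤ := top_le_iff.mp
      (Cfsg.Agent.FrobSys.perfect_le (D := ⊤) (by rw [← commutator_def, hperf])
        (Cfsg.Agent.S0205.result hodd'))
    refine hz2 (hA.eq_one_of_central (hperf ▸ Subgroup.mem_top z) ?_)
    exact Subgroup.mem_center_iff.mpr fun g =>
      ((Subgroup.mem_centralizer_iff.mp (htop ▸ Subgroup.mem_top g)) z hzN).symm

omit h in
/-- A perfect finite group with abelian Sylow subgroups has no proper subgroup of 2-power index. -/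
theorem eq_top_of_two_power_index {E : Type u} [Group E] [Finite E] (hA : AbSylow E)
    (hperf : commutator E = ⊤) (H : Subgroup E) {a : ℕ} (ha : H.index = 2 ^ a) : H = ⊤ :=
  eq_top_aux _ rfl hA hperf H ⟨a, ha⟩

end CfsgLib.AGroupIndex
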