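import Cfsg.Agent.Lib.AGroupIndex.Basic
import Cfsg.Agent.Lib.NumberTheory.Zsigmondy
import Cfsg.Agent.S0208

/-!
# A simple group with abelian Sylow subgroups has no proper subgroup of 2-power index

An involution lies in one Sylow 2-subgroup, the subgroup `H` is of odd order, and its part `K`
normalizing a Sylow 2-subgroup `P` is semilinear on `Ω₁(P)`. The involutions mapping `P` to
another Sylow 2-subgroup are too many for the two-point stabilizer.
-/

set_option autoImplicit false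
set_option linter.style.haveILetI false

open Cfsg
open scoped Pointwise

namespace CfsgLib.AGroupIndex

/-- A prime divisor of `2 ^ f - 1` exceeding `f`. -/
theorem exists_prime_gt {f : ℕ} (hf : 2 ≤ f) : ∃ r, r.Prime ∧ r ∣ 2 ^ f - 1 ∧ f < r := by
  by_cases h6 : f = 6
  · exact ⟨7, by norm_num, by subst h6; norm_num, by omega⟩
  obtain ⟨r, hr, hrd, hprim⟩ :=
    CfsgLib.NumberTheory.exists_primitive_prime (a := 2) (n := f) (by norm_num) (by omega)
      (fun e => h6 e.2) (fun e => by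
        obtain ⟨m, hm⟩ := e.2
        rcases m with - | m
        · simp at hm
        · rw [pow_succ] at hm; omega)
  haveI := Fact.mk hr
  refine ⟨r, hr, hrd, ?_⟩
  have hr2 : ((2 : ℕ) : ZMod r) ≠ 0 := by
    rw [Ne, ZMod.natCast_eq_zero_iff]
    intro h2
    obtain rfl := (Nat.prime_dvd_prime_iff_eq hr Nat.prime_two).mp h2
    have : 2 ∣ 2 ^ f := dvd_pow_self 2 (by omega)
    have := Nat.one_le_two_pow (n := f)
    omega
  have hk : ((2 : ℕ) : ZMod r) ^ (r - 1) = 1 := ZMod.pow_card_sub_one_eq_one hr2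
  by_contra hle
  refine hprim (r - 1) (by have := hr.two_le; omega) (by omega) ?_
  rw [← Nat.cast_pow, ← Nat.cast_one (R := ZMod r), ZMod.natCast_eq_natCast_iff] at hk
  exact (Nat.modEq_iff_dvd' Nat.one_le_two_pow).mp hk.symm

variable {E : Type*} [Group E]

/-- The image of a map separating the cosets of `L` in `X` has order dividing that of `X`. -/
theorem card_dvd_of_surjective {α : Type*} [Finite E] (X L : Subgroup E) (c : X → α)
    (hc : ∀ a b : X, c a = c b ↔ (a : E)⁻¹ * b ∈ L) (hs : Function.Surjective c) :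
    Nat.card α ∣ Nat.card X := by
  let g : X ⧸ L.subgroupOf X → α := fun x => c x.out
  have hg : Function.Bijective g := by
    refine ⟨fun x y e => ?_, fun z => ?_⟩
    · rw [← QuotientGroup.out_eq' x, ← QuotientGroup.out_eq' y]
      exact QuotientGroup.eq.mpr ((hc _ _).mp e)
    · obtain ⟨a, rfl⟩ := hs z
      refine ⟨(a : X ⧸ L.subgroupOf X), (hc _ _).mpr ?_⟩
      exact ((QuotientGroup.eq (s := L.subgroupOf X)).mp (QuotientGroup.out_eq' _) :)
  rw [← Nat.card_congr (Equiv.ofBijective g hg)]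
  exact Subgroup.card_quotient_dvd_card _

/-- Subgroups of order the full `r`-part of `N` are conjugate in `N`. -/
theorem exists_conj_of_card [Finite E] {r : ℕ} [Fact r.Prime] {N A B : Subgroup E} (hA : A ≤ N)
    (hB : B ≤ N) (ha : Nat.card A = r ^ (Nat.card N).factorization r)
    (hb : Nat.card B = r ^ (Nat.card N).factorization r) :
    ∃ n ∈ N, ∀ x, x ∈ A ↔ n * x * n⁻¹ ∈ B := by
  have hca : Nat.card (A.subgroupOf N) = r ^ (Nat.card N).factorization r := by
    rw [Nat.card_congr (Subgroup.subgroupOfEquivOfLe hA).toEquiv, ha]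
  have hcb : Nat.card (B.subgroupOf N) = r ^ (Nat.card N).factorization r := by
    rw [Nat.card_congr (Subgroup.subgroupOfEquivOfLe hB).toEquiv, hb]
  obtain ⟨n, hn⟩ := MulAction.exists_smul_eq N (Sylow.ofCard _ hca) (Sylow.ofCard _ hcb)
  have hn' : MulAut.conj n • A.subgroupOf N = B.subgroupOf N := by
    have := congrArg (fun S : Sylow r N => (S : Subgroup N)) hn
    simpa [Sylow.coe_subgroup_smul] using this
  refine ⟨n, n.2, fun x => ⟨fun hx => ?_, fun hx => ?_⟩⟩
  · have : MulAut.conj n • (⟨x, hA hx⟩ : N) ∈ B.subgroupOf N :=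
      hn' ▸ Subgroup.smul_mem_pointwise_smul _ _ _ hx
    exact this
  · have hxN : x ∈ N := by
      simpa [mul_assoc] using N.mul_mem (N.mul_mem (N.inv_mem n.2) (hB hx)) n.2
    have h1 : MulAut.conj n • (⟨x, hxN⟩ : N) ∈ MulAut.conj n • A.subgroupOf N := hn' ▸ hx
    exact (Subgroup.smul_mem_pointwise_smul_iff.mp h1 :)

variable [Finite E] {H : Subgroup E} (h : Hyp H)

/-- The stabilizer of a Sylow 2-subgroup. -/
abbrev NP (P : Sylow 2 E) : Subgroup E := Subgroup.normalizer ((P : Subgroup E) : Set E)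

omit [Finite E] in
theorem invol_of_order {t : E} (ht : orderOf t = 2) : t * t = 1 ∧ t ≠ 1 ∧ t⁻¹ = t := by
  have h1 : t * t = 1 := by rw [← pow_two, ← ht, pow_orderOf_eq_one]
  exact ⟨h1, fun e => by simp [e] at ht, inv_eq_of_mul_eq_one_right h1⟩

omit [Finite E] in
theorem orderOf_two {t : E} (ht : t * t = 1) (ht1 : t ≠ 1) : orderOf t = 2 :=
  haveI : Fact (Nat.Prime 2) := ⟨Nat.prime_two⟩
  orderOf_eq_prime (by rw [pow_two, ht]) ht1

theorem mem_of_invol_normalizes (P : Sylow 2 E) {t : E} (ht : orderOf t = 2) (hn : t ∈ NP P) :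
    t ∈ (P : Subgroup E) := by
  haveI : Fact (Nat.Prime 2) := ⟨Nat.prime_two⟩
  have hp : IsPGroup 2 (Subgroup.zpowers t) :=
    IsPGroup.of_card (n := 1) (by rw [Nat.card_zpowers, ht, pow_one])
  exact P.3 (P.2.to_sup_of_normal_left' hp (Subgroup.zpowers_le.mpr hn)) le_sup_left ▸
    Subgroup.mem_sup_right (Subgroup.mem_zpowers t)

include h

theorem sylow_eq_of_invol (P Q : Sylow 2 E) {t : E} (ht : orderOf t = 2)
    (hP : t ∈ (P : Subgroup E)) (hQ : t ∈ (Q : Subgroup E)) : P = Q := by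
  haveI : Fact (Nat.Prime 2) := ⟨Nat.prime_two⟩
  have hQN : (Q : Subgroup E) ≤ NP P := fun s hs =>
    h.centralizer_invol P hP (invol_of_order ht).2.1
      (Subgroup.mem_centralizer_singleton_iff.mpr (h.sylow_comm Q hs hQ))
  obtain ⟨g, hg⟩ := MulAction.exists_smul_eq (NP P)
    (P.subtype Subgroup.le_normalizer) (Q.subtype hQN)
  haveI : ((P.subtype (Subgroup.le_normalizer (H := (P : Subgroup E)))) : Subgroup (NP P)).Normal :=
    Subgroup.normal_subgroupOf_of_le_normalizer le_rfl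
  rw [Sylow.smul_eq_of_normal] at hg
  refine Sylow.subtype_injective (hP := Subgroup.le_normalizer) (hQ := hQN) ?_
  exact hg

theorem exists_ne_sylow (P : Sylow 2 E) : ∃ Q : Sylow 2 E, Q ≠ P := by
  obtain ⟨g, -, hg⟩ := SetLike.exists_of_lt (lt_top_iff_ne_top.mpr (h.normalizer_ne_top P))
  exact ⟨g • P, fun e => hg (Sylow.smul_eq_iff_mem_normalizer.mp e)⟩

theorem exists_invol_mem (P : Sylow 2 E) : ∃ t ∈ (P : Subgroup E), orderOf t = 2 := by
  haveI : Fact (Nat.Prime 2) := ⟨Nat.prime_two⟩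
  haveI : Nontrivial (P : Subgroup E) :=
    (Subgroup.nontrivial_iff_ne_bot _).mpr (h.sylow_ne_bot P)
  obtain ⟨⟨t, ht⟩, ho⟩ := exists_prime_orderOf_dvd_card' (G := (P : Subgroup E)) 2
    (P.2.card_eq_or_dvd.resolve_left Finite.one_lt_card.ne')
  exact ⟨t, ht, by rwa [Subgroup.orderOf_mk] at ho⟩

omit h in
theorem exists_sylow_invol {t : E} (ht : orderOf t = 2) :
    ∃ P : Sylow 2 E, t ∈ (P : Subgroup E) := by
  haveI : Fact (Nat.Prime 2) := ⟨Nat.prime_two⟩
  obtain ⟨P, hP⟩ := (IsPGroup.of_card (n := 1)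
    (by rw [Nat.card_zpowers, ht, pow_one] : Nat.card (Subgroup.zpowers t) = 2 ^ 1)).exists_le_sylow
  exact ⟨P, hP (Subgroup.mem_zpowers t)⟩

theorem isConj_invol {t u : E} (ht : orderOf t = 2) (hu : orderOf u = 2) : IsConj t u := by
  have key : ∀ (P Q : Sylow 2 E), P ≠ Q → ∀ {a b : E}, orderOf a = 2 → orderOf b = 2 →
      a ∈ (P : Subgroup E) → b ∈ (Q : Subgroup E) → IsConj a b := by
    intro P Q hPQ a b ha hb haP hbQ
    by_cases ho : Odd (orderOf (a * b))
    · obtain ⟨d, -, hd⟩ := Cfsg.Agent.S0208.result a b ha hb ho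
      exact isConj_iff.mpr ⟨d, hd⟩
    exfalso
    rw [Nat.not_odd_iff_even, even_iff_two_dvd] at ho
    obtain ⟨z, hzdef⟩ : ∃ z, z = (a * b) ^ (orderOf (a * b) / 2) := ⟨_, rfl⟩
    have hz : orderOf z = 2 := hzdef ▸ orderOf_pow_orderOf_div (orderOf_pos _).ne' ho
    obtain ⟨ha1, -, ha3⟩ := invol_of_order ha
    obtain ⟨hb1, -, hb3⟩ := invol_of_order hb
    obtain ⟨hz1, -, hz3⟩ := invol_of_order hz
    have hza : z * a = a * z := by
      have h1 : a * z * a⁻¹ = z⁻¹ := by
        rw [hzdef, ← conj_pow, ← inv_pow]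
        congr 1
        rw [mul_inv_rev, ha3, hb3, ← mul_assoc, ha1, one_mul]
      rw [hz3] at h1
      exact (eq_mul_inv_iff_mul_eq.mp h1.symm)
    have hzb : z * b = b * z := by
      have h2 : Commute z (a * b) := hzdef ▸ (Commute.pow_self _ _)
      have : z * (a * (a * b)) = (a * (a * b)) * z := by
        rw [← mul_assoc, hza, mul_assoc, h2.eq, ← mul_assoc a (a * b) z]
      rwa [← mul_assoc a a b, ha1, one_mul] at this
    obtain ⟨R, hR⟩ := exists_sylow_invol hz
    have hmem : ∀ c : E, orderOf c = 2 → z * c = c * z → c ∈ (R : Subgroup E) := fun c hc e =>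
      mem_of_invol_normalizes R hc (h.centralizer_invol R hR (invol_of_order hz).2.1
        (Subgroup.mem_centralizer_singleton_iff.mpr e.symm))
    exact hPQ ((sylow_eq_of_invol h P R ha haP (hmem a ha hza)).trans
      (sylow_eq_of_invol h Q R hb hbQ (hmem b hb hzb)).symm)
  obtain ⟨P, hP⟩ := exists_sylow_invol ht
  obtain ⟨Q, hQ⟩ := exists_sylow_invol hu
  by_cases hPQ : P = Q
  · obtain ⟨R, hR⟩ := exists_ne_sylow h P
    obtain ⟨v, hv, hvo⟩ := exists_invol_mem h R
    exact (key P R hR.symm ht hvo hP hv).trans (key R Q (hPQ ▸ hR) hvo hu hv hQ)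
  · exact key P Q hPQ ht hu hP hQ

theorem fusion (P : Sylow 2 E) {t u : E} (ht : orderOf t = 2) (hu : orderOf u = 2)
    (htP : t ∈ (P : Subgroup E)) (huP : u ∈ (P : Subgroup E)) :
    ∃ n ∈ NP P, n * t * n⁻¹ = u := by
  obtain ⟨g, hg⟩ := isConj_iff.mp (isConj_invol h ht hu)
  refine ⟨g, Sylow.smul_eq_iff_mem_normalizer.mp (sylow_eq_of_invol h _ P hu ?_ huP), hg⟩
  have : MulAut.conj g • t ∈ MulAut.conj g • (P : Subgroup E) :=
    Subgroup.smul_mem_pointwise_smul _ _ _ htP
  rw [← hg]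
  exact this

theorem odd_card : Odd (Nat.card H) := by
  haveI : Fact (Nat.Prime 2) := ⟨Nat.prime_two⟩
  haveI := h.simple
  by_contra he
  rw [Nat.not_odd_iff_even, even_iff_two_dvd] at he
  have hall : ∀ u : E, orderOf u = 2 → u ∈ H := by
    intro u hu
    obtain ⟨P, huP⟩ := exists_sylow_invol hu
    obtain ⟨⟨t, ht'⟩, hto⟩ :=
      exists_prime_orderOf_dvd_card' (G := ↥(H ⊓ (P : Subgroup E))) 2 (by
        rw [(h.sylow_spec P).2]
        exact dvd_pow_self 2 ((Nat.Prime.factorization_pos_of_dvd Nat.prime_two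
          Nat.card_pos.ne' he).ne'))
    rw [Subgroup.orderOf_mk] at hto
    obtain ⟨htH, htP⟩ := ht'
    obtain ⟨n, hn, hnt⟩ := fusion h P hto hu htP huP
    obtain ⟨s, hs, y, hy, e⟩ := h.exists_mul P n⁻¹
    have e' : n = y⁻¹ * s⁻¹ := by rw [← inv_inj, e]; group
    rw [← hnt, e']
    have hst : s⁻¹ * t * s⁻¹⁻¹ = t := by
      rw [h.sylow_comm P (inv_mem hs) htP]; group
    rw [show y⁻¹ * s⁻¹ * t * (y⁻¹ * s⁻¹)⁻¹ = y⁻¹ * (s⁻¹ * t * s⁻¹⁻¹) * y by group, hst]
    exact H.mul_mem (H.mul_mem (H.inv_mem hy) htH) hy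
  obtain ⟨P⟩ : Nonempty (Sylow 2 E) := inferInstance
  obtain ⟨t, -, hto⟩ := exists_invol_mem h P
  have hle : Subgroup.normalClosure {t} ≤ H := by
    rw [Subgroup.normalClosure, Subgroup.closure_le]
    intro x hx
    obtain ⟨w, rfl, hc⟩ := Group.mem_conjugatesOfSet_iff.mp hx
    obtain ⟨g, rfl⟩ := isConj_iff.mp hc
    exact hall _ (by rw [← MulAut.conj_apply, MulEquiv.orderOf_eq, hto])
  rcases (inferInstance : (Subgroup.normalClosure {t}).Normal).eq_bot_or_eq_top with e | e
  · have : t ∈ Subgroup.normalClosure {t} := Subgroup.subset_normalClosure rfl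
    rw [e, Subgroup.mem_bot] at this
    exact (invol_of_order hto).2.1 this
  · exact h.ne_top (top_le_iff.mp (e ▸ hle))

theorem inf_eq_bot (P : Sylow 2 E) : H ⊓ (P : Subgroup E) = ⊥ := by
  refine Subgroup.eq_bot_of_card_eq _ ?_
  rw [(h.sylow_spec P).2, Nat.factorization_eq_zero_of_not_dvd, pow_zero]
  exact Nat.two_dvd_ne_zero.mpr (Nat.odd_iff.mp (odd_card h))

theorem card_normalizer (P : Sylow 2 E) :
    Nat.card (NP P) = Nat.card ↥(H ⊓ NP P) * Nat.card (P : Subgroup E) := by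
  have h1 := Subgroup.relIndex_mul_relIndex ⊥ (H ⊓ NP P) (NP P) bot_le inf_le_right
  rw [Subgroup.relIndex_bot_left, Subgroup.relIndex_bot_left, Subgroup.inf_relIndex_right] at h1
  have h2 : H.relIndex (NP P) = H.index := by
    refine le_antisymm ?_ ?_
    · rw [← Subgroup.relIndex_top_right]
      exact Subgroup.relIndex_le_of_le_right le_top (by
        rw [Subgroup.relIndex_top_right]; exact Subgroup.index_ne_zero_of_finite)
    · rw [← (h.sylow_spec P).1]
      exact Subgroup.relIndex_le_of_le_right Subgroup.le_normalizer fun e =>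
        Subgroup.index_ne_zero_of_finite (Subgroup.index_eq_zero_of_relIndex_eq_zero e)
  have h3 : H.index = Nat.card (P : Subgroup E) := by
    rw [← (h.sylow_spec P).1, ← Subgroup.inf_relIndex_right, inf_eq_bot h P,
      Subgroup.relIndex_bot_left]
  rw [← h1, h2, h3]

theorem card_dvd_inf {P : Sylow 2 E} {D : Subgroup E} (hD : D ≤ NP P) (hodd : Odd (Nat.card D)) :
    Nat.card D ∣ Nat.card ↥(H ⊓ NP P) := by
  haveI : Fact (Nat.Prime 2) := ⟨Nat.prime_two⟩
  refine Nat.Coprime.dvd_of_dvd_mul_right ?_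
    ((card_normalizer h P) ▸ Subgroup.card_dvd_of_le hD)
  obtain ⟨j, hj⟩ := P.2.exists_card_eq
  rw [hj]
  exact Nat.Coprime.pow_right _ (Nat.coprime_two_right.mpr hodd)

end CfsgLib.AGroupIndex
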